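import Mathlib
import Cfsg.Agent.PLocal.AmbSyl
import Cfsg.Agent.Inv.AutCyc
import Cfsg.Agent.S0261
import Cfsg.Agent.S0244
import Cfsg.Agent.Class.Pron.Basic

/-!
Norm one quaternions over a finite field of odd order (`≃ SL₂`), the subgroup `Q₈` and its
normalizer; the unitary group over the quaternions is the symplectic group.
-/

set_option autoImplicit false
set_option linter.unusedSectionVars false

namespace Cfsg.Agent.Class.PronSp

open Subgroup Quaternion Matrix Cfsg Cfsg.Agent.PLocal.Amb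
open scoped MatrixGroups

variable {F : Type*} [Field F]

instance [Finite F] : Finite ℍ[F] :=
  Finite.of_equiv _ (QuaternionAlgebra.equivTuple (-1 : F) 0 (-1)).symm

instance : Nontrivial ℍ[F] := ⟨0, 1, fun h => zero_ne_one (congrArg QuaternionAlgebra.re h)⟩

theorem mem_un {x : ℍ[F]} : x ∈ unitary ℍ[F] ↔ normSq x = 1 := by
  rw [Unitary.mem_iff, star_mul_self, self_mul_star, and_self, ← Quaternion.coe_one, coe_inj]

/-- Norm one quaternions. -/
abbrev D (F : Type*) [Field F] := unitary ℍ[F]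

theorem nrm (x : D F) : normSq (x : ℍ[F]) = 1 := mem_un.1 x.2

/-- A quaternion from its coordinates. -/
def qq (a b c d : F) : ℍ[F] := ⟨a, b, c, d⟩

@[simp] theorem qq_re (a b c d : F) : (qq a b c d).re = a := rfl
@[simp] theorem qq_i (a b c d : F) : (qq a b c d).imI = b := rfl
@[simp] theorem qq_j (a b c d : F) : (qq a b c d).imJ = c := rfl
@[simp] theorem qq_k (a b c d : F) : (qq a b c d).imK = d := rfl
@[simp] theorem coe_inv' (n : D F) : ((n⁻¹ : D F) : ℍ[F]) = star (n : ℍ[F]) := rfl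
@[simp] theorem cneg (x : D F) : ((-x : D F) : ℍ[F]) = -x := rfl

theorem qext_iff {x y : ℍ[F]} :
    x = y ↔ x.re = y.re ∧ x.imI = y.imI ∧ x.imJ = y.imJ ∧ x.imK = y.imK :=
  ⟨fun h => by simp [h], fun h => Quaternion.ext _ _ h.1 h.2.1 h.2.2.1 h.2.2.2⟩

theorem dext_iff {x y : D F} : x = y ↔ x.1.re = y.1.re ∧ x.1.imI = y.1.imI ∧ x.1.imJ = y.1.imJ ∧
    x.1.imK = y.1.imK := Subtype.ext_iff.trans qext_iff

def qi : D F := ⟨qq 0 1 0 0, mem_un.2 (by simp [normSq_def'])⟩
def qj : D F := ⟨qq 0 0 1 0, mem_un.2 (by simp [normSq_def'])⟩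
def qk : D F := ⟨qq 0 0 0 1, mem_un.2 (by simp [normSq_def'])⟩

theorem dext {x y : D F} (h1 : x.1.re = y.1.re) (h2 : x.1.imI = y.1.imI) (h3 : x.1.imJ = y.1.imJ)
    (h4 : x.1.imK = y.1.imK) : x = y := Subtype.ext (Quaternion.ext _ _ h1 h2 h3 h4)

@[simp] theorem ii : (qi * qi : D F) = -1 := by apply dext <;> simp [qi]
@[simp] theorem jj : (qj * qj : D F) = -1 := by apply dext <;> simp [qj]
@[simp] theorem kk : (qk * qk : D F) = -1 := by apply dext <;> simp [qk]
@[simp] theorem ij : (qi * qj : D F) = qk := by apply dext <;> simp [qi, qj, qk]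
@[simp] theorem ji : (qj * qi : D F) = -qk := by apply dext <;> simp [qi, qj, qk]
@[simp] theorem jk : (qj * qk : D F) = qi := by apply dext <;> simp [qi, qj, qk]
@[simp] theorem kj : (qk * qj : D F) = -qi := by apply dext <;> simp [qi, qj, qk]
@[simp] theorem ki : (qk * qi : D F) = qj := by apply dext <;> simp [qi, qj, qk]
@[simp] theorem ik : (qi * qk : D F) = -qj := by apply dext <;> simp [qi, qj, qk]
@[simp] theorem i_inv : (qi : D F)⁻¹ = -qi := inv_eq_of_mul_eq_one_right (by simp)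
@[simp] theorem j_inv : (qj : D F)⁻¹ = -qj := inv_eq_of_mul_eq_one_right (by simp)
@[simp] theorem k_inv : (qk : D F)⁻¹ = -qk := inv_eq_of_mul_eq_one_right (by simp)

variable (F) in
/-- The quaternion group. -/
def Q8 : Subgroup (D F) where
  carrier := {x | x = 1 ∨ x = -1 ∨ x = qi ∨ x = -qi ∨ x = qj ∨ x = -qj ∨ x = qk ∨ x = -qk}
  one_mem' := by simp
  mul_mem' := by
    rintro a b (rfl | rfl | rfl | rfl | rfl | rfl | rfl | rfl)
      (rfl | rfl | rfl | rfl | rfl | rfl | rfl | rfl) <;> simp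
  inv_mem' := by
    rintro a (rfl | rfl | rfl | rfl | rfl | rfl | rfl | rfl) <;> simp

theorem mem_Q8 {x : D F} : x ∈ Q8 F ↔
    x = 1 ∨ x = -1 ∨ x = qi ∨ x = -qi ∨ x = qj ∨ x = -qj ∨ x = qk ∨ x = -qk := Iff.rfl

theorem m1_mem : (-1 : D F) ∈ Q8 F := by simp [mem_Q8]
theorem i_mem : (qi : D F) ∈ Q8 F := by simp [mem_Q8]
theorem j_mem : (qj : D F) ∈ Q8 F := by simp [mem_Q8]
theorem k_mem : (qk : D F) ∈ Q8 F := by simp [mem_Q8]
theorem neg_mem_of {X : Subgroup (D F)} (h : Q8 F ≤ X) {x : D F} (hx : x ∈ X) : -x ∈ X := by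
  simpa using mul_mem (h m1_mem) hx

theorem pow_four {x : D F} (h : x ∈ Q8 F) : x ^ 4 = 1 := by
  rw [show x ^ 4 = (x * x) * (x * x) by simp [pow_succ, mul_assoc]]
  rcases h with (rfl | rfl | rfl | rfl | rfl | rfl | rfl | rfl) <;> simp

theorem isPGroup_Q8 : IsPGroup 2 (Q8 F) := fun x => ⟨2, Subtype.ext (pow_four x.2)⟩

variable (h2 : (2 : F) ≠ 0)
include h2

theorem one_ne_neg : (1 : F) ≠ -1 := fun h => h2 (by linear_combination h)

theorem card_Q8 : Nat.card (Q8 F) = 8 := by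
  classical
  have h1 := one_ne_neg h2
  have : (Q8 F : Set (D F)) = ({1, -1, qi, -qi, qj, -qj, qk, -qk} : Finset (D F)) := by
    ext x; simp [mem_Q8]
  rw [← SetLike.coe_sort_coe, this, Nat.card_coe_set_eq, Set.ncard_coe_finset]
  rw [Finset.card_insert_of_notMem, Finset.card_insert_of_notMem, Finset.card_insert_of_notMem,
    Finset.card_insert_of_notMem, Finset.card_insert_of_notMem, Finset.card_insert_of_notMem,
    Finset.card_insert_of_notMem, Finset.card_singleton] <;>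
  simp [dext_iff, qext_iff, qi, qj, qk, h1]

/-- The element `(-1+i+j+k)/2` of order three. -/
def qw : D F := ⟨qq (-2⁻¹) 2⁻¹ 2⁻¹ 2⁻¹, mem_un.2 (by simp [normSq_def']; field_simp; norm_num)⟩

theorem wi : qw h2 * qi = qk * qw h2 := by apply dext <;> simp [qi, qk, qw]
theorem wj : qw h2 * qj = qi * qw h2 := by apply dext <;> simp [qi, qj, qw]
theorem wk : qw h2 * qk = qj * qw h2 := by apply dext <;> simp [qj, qk, qw]
theorem w3 : qw h2 ^ 3 = 1 := by
  apply dext <;> simp [qw, pow_succ] <;> field_simp <;> norm_num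

theorem w_not : qw h2 ∉ Q8 F := by
  rw [mem_Q8]
  simp [dext_iff, qext_iff, qi, qj, qk, qw, h2]

omit h2 in
theorem mem_norm [Finite F] {n : D F} (h1 : n * qi * n⁻¹ ∈ Q8 F) (h2 : n * qj * n⁻¹ ∈ Q8 F) :
    n ∈ 𝐍[Q8 F] := by
  have h3 : n * qk * n⁻¹ ∈ Q8 F := by
    have := mul_mem h1 h2
    rwa [show n * qi * n⁻¹ * (n * qj * n⁻¹) = n * (qi * qj) * n⁻¹ by group, ij] at this
  refine mem_normalizer_fintype ?_
  rintro a (rfl | rfl | rfl | rfl | rfl | rfl | rfl | rfl)
  · simp
  · simpa using m1_mem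
  all_goals first | assumption | simpa using neg_mem_of le_rfl ‹_›

theorem w_mem [Finite F] : qw h2 ∈ 𝐍[Q8 F] :=
  mem_norm (by rw [wi, mul_inv_cancel_right]; exact k_mem)
    (by rw [wj, mul_inv_cancel_right]; exact i_mem)

theorem cent_Q8 {n : D F} (h1 : n * qi = qi * n) (h3 : n * qj = qj * n) : n = 1 ∨ n = -1 := by
  have a := congrArg (fun x : D F => x.1.imK) h1
  have b := congrArg (fun x : D F => x.1.imJ) h1
  have c := congrArg (fun x : D F => x.1.imK) h3
  have d := nrm n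
  simp [qi, qj] at a b c
  rw [normSq_def'] at d
  have a' : n.1.imJ = 0 := (mul_eq_zero.1 (by linear_combination -a : 2 * n.1.imJ = 0)).resolve_left h2
  have b' : n.1.imK = 0 := (mul_eq_zero.1 (by linear_combination b : 2 * n.1.imK = 0)).resolve_left h2
  have c' : n.1.imI = 0 := (mul_eq_zero.1 (by linear_combination c : 2 * n.1.imI = 0)).resolve_left h2
  rw [a', b', c'] at d
  rcases sq_eq_one_iff.1 (show n.1.re ^ 2 = 1 by linear_combination d) with e | e
  · left; apply dext <;> simp [a', b', c', e]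
  · right; apply dext <;> simp [a', b', c', e]

section Norm

variable [Finite F] (h8 : ∀ y : D F, y ^ 4 ≠ -1)
include h8

theorem mem_of_comm_i {n : D F} (hn : n ∈ 𝐍[Q8 F]) (h1 : n * qi = qi * n) : n ∈ Q8 F := by
  have a := congrArg (fun x : D F => x.1.imK) h1
  have b := congrArg (fun x : D F => x.1.imJ) h1
  have d := nrm n
  simp [qi] at a b
  rw [normSq_def'] at d
  have a' : n.1.imJ = 0 := (mul_eq_zero.1 (by linear_combination -a : 2 * n.1.imJ = 0)).resolve_left h2
  have b' : n.1.imK = 0 := (mul_eq_zero.1 (by linear_combination b : 2 * n.1.imK = 0)).resolve_left h2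
  rw [a', b'] at d
  have k0 : n.1.re * n.1.imI = 0 → n ∈ Q8 F := fun e => by
    rcases mul_eq_zero.1 e with e | e
    · rcases sq_eq_one_iff.1 (show n.1.imI ^ 2 = 1 by linear_combination d - n.1.re * e) with e' | e'
      · rw [show n = qi by apply dext <;> simp [a', b', e, e', qi]]; exact i_mem
      · rw [show n = -qi by apply dext <;> simp [a', b', e, e', qi]]; exact neg_mem_of le_rfl i_mem
    · rcases sq_eq_one_iff.1 (show n.1.re ^ 2 = 1 by linear_combination d - n.1.imI * e) with e' | e'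
      · rw [show n = 1 by apply dext <;> simp [a', b', e, e']]; exact one_mem _
      · rw [show n = -1 by apply dext <;> simp [a', b', e, e']]; exact m1_mem
  have k1 : n.1.re ^ 2 = n.1.imI ^ 2 → n ∈ Q8 F := fun e => by
    refine absurd ?_ (h8 n)
    apply dext <;> simp [pow_succ, a', b']
    · linear_combination (-1 - n.1.re ^ 2 - n.1.imI ^ 2) * d + (2 * n.1.re ^ 2 - 2 * n.1.imI ^ 2) * e
    · linear_combination (4 * n.1.re * n.1.imI) * e
  have hj : (n * qj * n⁻¹).1.imJ = n.1.re ^ 2 - n.1.imI ^ 2 := by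
    simp [qj, a', b']; ring
  have hk : (n * qj * n⁻¹).1.imK = 2 * (n.1.re * n.1.imI) := by
    simp [qj, a', b']; ring
  rcases (mem_normalizer_iff.1 hn qj).1 j_mem with (e | e | e | e | e | e | e | e) <;>
    rw [e] at hj hk <;> simp [qi, qj, qk, h2] at hj hk
  all_goals first | exact k0 (mul_eq_zero.2 hk) | exact k1 (sub_eq_zero.1 hj.symm)

theorem norm_cases {n : D F} (hn : n ∈ 𝐍[Q8 F]) :
    n ∈ Q8 F ∨ qw h2 * n ∈ Q8 F ∨ (qw h2)⁻¹ * n ∈ Q8 F := by
  have k0 : ∀ {n : D F}, n ∈ 𝐍[Q8 F] → n * qi * n⁻¹ = qi ∨ n * qi * n⁻¹ = -qi → n ∈ Q8 F := by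
    rintro n hn (e | e)
    · exact mem_of_comm_i h2 h8 hn (mul_inv_eq_iff_eq_mul.1 e)
    · have := mem_of_comm_i h2 h8 (mul_mem (le_normalizer j_mem) hn) (by
        rw [mul_assoc, mul_inv_eq_iff_eq_mul.1 e, ← mul_assoc, ← mul_assoc]; simp)
      simpa [← mul_assoc] using mul_mem (inv_mem j_mem) this
  have hw := w_mem h2
  have e1 : ∀ x, n * qi * n⁻¹ = x → qw h2 * n * qi * (qw h2 * n)⁻¹ = qw h2 * x * (qw h2)⁻¹ := by
    rintro _ rfl; group
  have e2 : ∀ x, n * qi * n⁻¹ = x →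
      (qw h2)⁻¹ * n * qi * ((qw h2)⁻¹ * n)⁻¹ = (qw h2)⁻¹ * (x * qw h2) := by
    rintro _ rfl; group
  rcases (mem_normalizer_iff.1 hn qi).1 i_mem with (e | e | e | e | e | e | e | e)
  · exact absurd (conj_eq_one_iff.1 e) (by simp [qext_iff, qi])
  · rw [mul_inv_eq_iff_eq_mul, neg_mul, one_mul, ← mul_one n, mul_assoc, ← mul_neg,
      mul_right_inj, one_mul] at e
    exact absurd e (by simp [dext_iff, qi])
  · exact .inl (k0 hn (.inl e))
  · exact .inl (k0 hn (.inr e))
  · exact .inr (.inl (k0 (mul_mem hw hn) (.inl (by rw [e1 _ e, wj, mul_inv_cancel_right]))))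
  · exact .inr (.inl (k0 (mul_mem hw hn) (.inr (by
      rw [e1 _ e, mul_neg, wj, neg_mul, mul_inv_cancel_right]))))
  · exact .inr (.inr (k0 (mul_mem (inv_mem hw) hn) (.inl (by
      rw [e2 _ e, ← wi, inv_mul_cancel_left]))))
  · exact .inr (.inr (k0 (mul_mem (inv_mem hw) hn) (.inr (by
      rw [e2 _ e, neg_mul, ← wi, mul_neg, inv_mul_cancel_left]))))

theorem norm_le {X : Subgroup (D F)} (hX : Q8 F ≤ X) {n : D F} (hn : n ∈ 𝐍[Q8 F]) (h : n ∈ X)
    (h' : n ∉ Q8 F) : 𝐍[Q8 F] ≤ X := by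
  have hw : qw h2 ∈ X := by
    rcases norm_cases h2 h8 hn with e | e | e
    · exact absurd e h'
    · simpa using mul_mem (hX e) (inv_mem h)
    · simpa using mul_mem h (inv_mem (hX e))
  intro m hm
  rcases norm_cases h2 h8 hm with e | e | e
  · exact hX e
  · simpa using mul_mem (inv_mem hw) (hX e)
  · simpa using mul_mem hw (hX e)

theorem comm_mem {a b : D F} (ha : a ∈ 𝐍[Q8 F]) (hb : b ∈ 𝐍[Q8 F]) :
    a * b * a⁻¹ * b⁻¹ ∈ Q8 F := by
  have k : ∀ a ∈ 𝐍[Q8 F], ∃ s : ℤ, ∃ q ∈ Q8 F, a = qw h2 ^ s * q := fun a ha => by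
    rcases norm_cases h2 h8 ha with e | e | e
    · exact ⟨0, a, e, by simp⟩
    · exact ⟨-1, _, e, by simp⟩
    · exact ⟨1, _, e, by simp⟩
  obtain ⟨s, q, hq, rfl⟩ := k a ha
  obtain ⟨t, r, hr, rfl⟩ := k b hb
  have c := fun (s : ℤ) q hq => (mem_normalizer_iff.1 (zpow_mem (w_mem h2) s) q).1 hq
  convert mul_mem (mul_mem (c s q hq) (c (s + t) _ (mul_mem hr (inv_mem hq))))
    (c t _ (inv_mem hr)) using 1
  group

end Norm

/-! ### The matrix model -/

section Phi

variable {a b : F}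

def f11 (a b : F) : ℍ[F] →+ F where
  toFun x := x.re + x.imJ * a - x.imK * b
  map_zero' := by simp
  map_add' x y := by simp; ring
def f12 (a b : F) : ℍ[F] →+ F where
  toFun x := -x.imI + x.imJ * b + x.imK * a
  map_zero' := by simp
  map_add' x y := by simp; ring
def f21 (a b : F) : ℍ[F] →+ F where
  toFun x := x.imI + x.imJ * b + x.imK * a
  map_zero' := by simp
  map_add' x y := by simp; ring
def f22 (a b : F) : ℍ[F] →+ F where
  toFun x := x.re - x.imJ * a + x.imK * b
  map_zero' := by simp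
  map_add' x y := by simp; ring

variable {ι : Type*} [Fintype ι] [DecidableEq ι]

/-- Quaternionic matrices as block matrices. -/
def Phi (hab : a ^ 2 + b ^ 2 = -1) : Matrix ι ι ℍ[F] →* Matrix (ι ⊕ ι) (ι ⊕ ι) F where
  toFun M := fromBlocks (M.map (f11 a b)) (M.map (f12 a b)) (M.map (f21 a b)) (M.map (f22 a b))
  map_one' := by
    rw [← fromBlocks_one]
    congr 1 <;> ext i j <;> by_cases h : i = j <;> simp [one_apply, h, f11, f12, f21, f22]
  map_mul' M N := by
    rw [fromBlocks_multiply]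
    congr 1 <;> ext i j <;>
      simp only [map_apply, mul_apply, map_sum, Matrix.add_apply, ← Finset.sum_add_distrib] <;>
      refine Finset.sum_congr rfl fun c _ => ?_ <;> simp [f11, f12, f21, f22]
    · linear_combination (-(M i c).imJ * (N c j).imJ - (M i c).imK * (N c j).imK) * hab
    · linear_combination (-(M i c).imJ * (N c j).imK + (M i c).imK * (N c j).imJ) * hab
    · linear_combination ((M i c).imJ * (N c j).imK - (M i c).imK * (N c j).imJ) * hab
    · linear_combination (-(M i c).imJ * (N c j).imJ - (M i c).imK * (N c j).imK) * hab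

variable (hab : a ^ 2 + b ^ 2 = -1)

omit h2 in
theorem Phi_apply (M : Matrix ι ι ℍ[F]) : Phi hab M =
  fromBlocks (M.map (f11 a b)) (M.map (f12 a b)) (M.map (f21 a b)) (M.map (f22 a b)) := rfl

omit h2 in
theorem Phi_star (M : Matrix ι ι ℍ[F]) : J ι F * (Phi hab M)ᵀ = Phi hab (star M) * J ι F := by
  rw [Phi_apply, Phi_apply, J, fromBlocks_transpose, fromBlocks_multiply, fromBlocks_multiply]
  congr 1 <;> ext i j <;> simp [f11, f12, f21, f22, star_apply] <;> ring

theorem Phi_inj : Function.Injective (Phi hab : Matrix ι ι ℍ[F] → _) := fun M N h => by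
  rw [Phi_apply, Phi_apply, fromBlocks_inj] at h
  obtain ⟨h1, h3, h4, h5⟩ := h
  ext1 i j
  have e1 := congrFun (congrFun h1 i) j
  have e2 := congrFun (congrFun h3 i) j
  have e3 := congrFun (congrFun h4 i) j
  have e4 := congrFun (congrFun h5 i) j
  simp [f11, f12, f21, f22] at e1 e2 e3 e4
  refine qext_iff.2 ⟨mul_left_cancel₀ h2 ?_, mul_left_cancel₀ h2 ?_, mul_left_cancel₀ h2 ?_,
    mul_left_cancel₀ h2 ?_⟩
  · linear_combination e1 + e4
  · linear_combination e3 - e2
  · linear_combination (-a) * (e1 - e4) - b * (e2 + e3) + 2 * ((M i j).imJ - (N i j).imJ) * hab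
  · linear_combination b * (e1 - e4) - a * (e2 + e3) + 2 * ((M i j).imK - (N i j).imK) * hab

theorem Phi_surj : Function.Surjective (Phi hab : Matrix ι ι ℍ[F] → _) := fun X => by
  refine ⟨of fun i j => qq ((X (.inl i) (.inl j) + X (.inr i) (.inr j)) / 2)
    ((X (.inr i) (.inl j) - X (.inl i) (.inr j)) / 2)
    (-(a * (X (.inl i) (.inl j) - X (.inr i) (.inr j)) +
      b * (X (.inl i) (.inr j) + X (.inr i) (.inl j))) / 2)
    ((b * (X (.inl i) (.inl j) - X (.inr i) (.inr j)) -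
      a * (X (.inl i) (.inr j) + X (.inr i) (.inl j))) / 2), ?_⟩
  rw [Phi_apply]
  ext (i | i) (j | j) <;> simp [f11, f12, f21, f22] <;> field_simp
  · linear_combination (X (.inr i) (.inr j) - X (.inl i) (.inl j)) * hab
  · linear_combination (-X (.inl i) (.inr j) - X (.inr i) (.inl j)) * hab
  · linear_combination (-X (.inl i) (.inr j) - X (.inr i) (.inl j)) * hab
  · linear_combination (X (.inl i) (.inl j) - X (.inr i) (.inr j)) * hab

theorem Phi_mem {M : Matrix ι ι ℍ[F]} :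
    Phi hab M ∈ symplecticGroup ι F ↔ M ∈ unitary (Matrix ι ι ℍ[F]) := by
  have k : Phi hab M ∈ symplecticGroup ι F ↔ M * star M = 1 := by
    rw [SymplecticGroup.mem_iff, mul_assoc, Phi_star, ← mul_assoc, ← map_mul]
    refine ⟨fun h => Phi_inj h2 hab ?_, fun h => by rw [h, map_one, one_mul]⟩
    have := congrArg (· * J ι F) h
    simp only [mul_assoc, J_squared, mul_neg, mul_one, neg_inj] at this
    rw [this, map_one]
  rw [k, Unitary.mem_iff]
  refine ⟨fun h => ⟨Phi_inj h2 hab ?_, h⟩, fun h => h.2⟩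
  rw [map_mul, map_one, mul_eq_one_comm, ← map_mul, h, map_one]

end Phi

variable [Finite F]

omit h2 in
theorem exists_ab : ∃ a b : F, a ^ 2 + b ^ 2 = -1 := by
  obtain ⟨p, hp⟩ := CharP.exists F
  have : NeZero p := ⟨CharP.char_ne_zero_of_finite F p⟩
  obtain ⟨x, y, hxy⟩ := CharP.sq_add_sq F p (-1)
  exact ⟨x, y, by exact_mod_cast hxy⟩

theorem nonempty_equiv_Sp (ι : Type*) [Fintype ι] [DecidableEq ι] :
    Nonempty (unitary (Matrix ι ι ℍ[F]) ≃* symplecticGroup ι F) := by
  obtain ⟨a, b, hab⟩ := exists_ab (F := F)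
  let φ : unitary (Matrix ι ι ℍ[F]) →* symplecticGroup ι F :=
    { toFun g := ⟨Phi hab g.1, (Phi_mem h2 hab).2 g.2⟩
      map_one' := Subtype.ext (map_one (Phi hab))
      map_mul' g h := Subtype.ext (map_mul (Phi hab) g.1 h.1) }
  have hφ : ∀ g, (φ g).1 = Phi hab g.1 := fun _ => rfl
  refine ⟨MulEquiv.ofBijective φ ⟨fun g h e => Subtype.ext (Phi_inj h2 hab ?_), fun X => ?_⟩⟩
  · rw [← hφ, ← hφ, e]
  obtain ⟨M, hM⟩ := Phi_surj h2 hab X.1
  exact ⟨⟨M, (Phi_mem h2 hab).1 (by rw [hM]; exact X.2)⟩, Subtype.ext ((hφ _).trans hM)⟩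

theorem nonempty_equiv_SL : Nonempty (D F ≃* SL(2, F)) := by
  obtain ⟨e⟩ := nonempty_equiv_Sp h2 (Fin 1)
  let e1 : D F ≃* unitary (Matrix (Fin 1) (Fin 1) ℍ[F]) :=
    { toFun x := ⟨of fun _ _ => x.1, by
        constructor <;> ext1 i j <;> simp [mul_apply, star_apply, one_apply, Subsingleton.elim i j]⟩
      invFun M := ⟨M.1 0 0, by
        constructor
        · simpa [mul_apply, star_apply] using congrFun (congrFun M.2.1 0) 0
        · simpa [mul_apply, star_apply] using congrFun (congrFun M.2.2 0) 0⟩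
      left_inv x := rfl
      right_inv M := Subtype.ext (by
        ext1 i j; rw [Subsingleton.elim i 0, Subsingleton.elim j 0]; rfl)
      map_mul' x y := Subtype.ext (by ext1 i j; simp [mul_apply]) }
  let e2 : symplecticGroup (Fin 1) F ≃* SL(2, F) :=
    { toFun g := ⟨reindex finSumFinEquiv finSumFinEquiv g.1,
        (det_reindex_self _ _).trans ((S0244.result _).1 g.2)⟩
      invFun g := ⟨reindex (finSumFinEquiv (m := 1) (n := 1)).symm finSumFinEquiv.symm g.1,
        (S0244.result _).2 ((det_reindex_self _ _).trans g.2)⟩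
      left_inv _ := Subtype.ext (by simp)
      right_inv _ := Subtype.ext (by simp)
      map_mul' a b := Subtype.ext (submatrix_mul_equiv a.1 b.1 _ finSumFinEquiv.symm _).symm }
  exact ⟨(e1.trans e).trans e2⟩

theorem odd_card' [Fintype F] : Odd (Fintype.card F) := by
  rw [← Nat.card_eq_fintype_card]
  by_contra h
  obtain ⟨p, hp⟩ := CharP.exists F
  obtain ⟨n, hpp, hn⟩ := FiniteField.card F p
  rw [Nat.not_odd_iff_even, Nat.card_eq_fintype_card, hn, Nat.even_pow] at h
  obtain rfl := hpp.even_iff.1 h.1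
  exact h2 (CharP.cast_eq_zero F 2)

theorem sylow_cases (S : Sylow 2 (D F)) (hS : Q8 F ≤ S) :
    ((S : Subgroup (D F)) = Q8 F ∧ ∀ y : D F, y ^ 4 ≠ -1) ∨ 𝐍[(S : Subgroup (D F))] ≤ S := by
  have := Fintype.ofFinite F
  obtain ⟨e⟩ := nonempty_equiv_SL h2
  obtain ⟨k, hk, ⟨e'⟩⟩ := S0261.result (odd_card' h2) (S.mapSurjective (f := e.toMonoidHom)
    e.surjective)
  have e2 := ((S : Subgroup (D F)).equivMapOfInjective e.toMonoidHom e.injective).trans e'
  rcases hk.eq_or_lt with rfl | hk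
  · have h1 : (S : Subgroup (D F)) = Q8 F := (eq_of_le_of_card_ge hS (by
      rw [card_Q8 h2, Nat.card_congr e2.toEquiv, Nat.card_eq_fintype_card,
        QuaternionGroup.card]; norm_num)).symm
    refine .inl ⟨h1, fun y hy => ?_⟩
    obtain ⟨g, -, hg⟩ := (isSyl_top S).exists_cj_le (R := zpowers y)
      (Dickson.isPGroup_zpowers_of_pow (a := 3) (by
        rw [show 2 ^ 3 = 4 * 2 from rfl, pow_mul, hy]; simp)) le_top
    have := pow_four (h1 ▸ hg (mem_map_of_mem _ (mem_zpowers y)))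
    rw [MulEquiv.toMonoidHom_eq_coe, MonoidHom.coe_coe, ← map_pow, hy, ← map_one (MulAut.conj g),
      EmbeddingLike.apply_eq_iff_eq] at this
    exact one_ne_neg h2 (by simpa using (congrArg (fun x : D F => x.1.re) this).symm)
  · refine .inr fun g hg => ?_
    obtain ⟨n, hn⟩ := Inv.AutCyc.exists_pow_mem_centralizer (Inv.AutCyc.isPGroup_mulAut_congr e2
      (Inv.AutCyc.isPGroup_mulAut_quaternion hk)) hg
    refine Pron.mem_sylow_of_pow_pow S hg (k := n + 1) ?_
    rw [pow_succ, pow_mul]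
    rcases cent_Q8 h2 (hn _ (hS i_mem)).symm (hn _ (hS j_mem)).symm with e | e <;> simp [e]

theorem pronormal_D {M : Subgroup (D F)} (hm : -1 ∈ M) (hM : Odd M.index) : IsPronormal M := by
  obtain ⟨e⟩ := nonempty_equiv_SL h2
  let π : D F →* PSL(2, F) := (QuotientGroup.mk' _).comp e.toMonoidHom
  have hπ : Function.Surjective π := (QuotientGroup.mk'_surjective _).comp e.surjective
  have hk : π.ker ≤ M := fun x hx => by
    have : e x ∈ center _ := (QuotientGroup.eq_one_iff _).1 hx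
    have c := fun y => e.injective (by simpa using mem_center_iff.1 this (e y) :
      e (y * x) = e (x * y))
    rcases cent_Q8 h2 (c _).symm (c _).symm with rfl | rfl
    exacts [one_mem _, hm]
  refine FGS.IsPronormal.of_map π hk ?_
  obtain ⟨a, b, -, K, -⟩ := JTW.PA.exists_klein h2
  exact Pron.pronormal_of_dih (fun s h1 hs => ⟨_, JTW.PA.exists_dih h2 h1 hs⟩) ⟨a, b, K⟩ _
    (by rwa [index_map_eq _ hπ hk])

end Cfsg.Agent.Class.PronSp
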