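import Mathlib
import Cfsg.Agent.Class.PronSp.Quat
import Cfsg.Agent.Class.PronSp.Ring
import Cfsg.Agent.Class.Wr.Basic
import Cfsg.Agent.Inv.ZStarCor

/-!
The unitary group over the quaternions: monomial subgroup, rank one projections.
-/

set_option autoImplicit false
set_option linter.unusedSectionVars false

namespace Cfsg.Agent.Class.PronSp

open Subgroup Quaternion Matrix Cfsg Cfsg.Agent.PLocal.Amb Equiv
open Cfsg.Agent.Class.Wr (WrData)
open scoped commutatorElement

variable {F : Type*} [Field F] {ι : Type*} [Fintype ι] [DecidableEq ι]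

abbrev MR (ι F : Type*) [Field F] := Matrix ι ι ℍ[F]
abbrev U (ι F : Type*) [Field F] [Fintype ι] [DecidableEq ι] := unitary (MR ι F)

theorem ucoe_inv (g : U ι F) : (g⁻¹ : U ι F).1 = star g.1 := rfl
theorem ucoe_mul (g h : U ι F) : (g * h : U ι F).1 = g.1 * h.1 := rfl
theorem ucoe_one : (1 : U ι F).1 = 1 := rfl
theorem ms (g : U ι F) : g.1 * star g.1 = 1 := g.2.2
theorem sm (g : U ι F) : star g.1 * g.1 = 1 := g.2.1
theorem ms' (g : U ι F) (x : MR ι F) : g.1 * (star g.1 * x) = x := by
  rw [← mul_assoc, ms, one_mul]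
theorem sm' (g : U ι F) (x : MR ι F) : star g.1 * (g.1 * x) = x := by
  rw [← mul_assoc, sm, one_mul]

/-- Permutation matrices. -/
def pm (σ : Perm ι) : MR ι F := of fun a b => if a = σ b then 1 else 0

theorem pm_mul (σ τ : Perm ι) : (pm σ * pm τ : MR ι F) = pm (σ * τ) := by
  ext1 a b; simp [pm, mul_apply]; rfl

theorem pm_one : (pm 1 : MR ι F) = 1 := by ext1 a b; simp [pm, one_apply]; rfl

theorem star_pm (σ : Perm ι) : star (pm σ : MR ι F) = pm σ⁻¹ := by
  ext1 a b
  simp only [pm, star_apply, of_apply, Perm.eq_inv_iff_eq, eq_comm (a := b)]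
  split_ifs <;> simp

/-- The monomial group. -/
def W (ι F : Type*) [Field F] [Fintype ι] [DecidableEq ι] : WrData (U ι F) (D F) ι where
  base :=
    { toFun f := ⟨diagonal fun i => (f i).1, by
        constructor <;> simp [star_eq_conjTranspose, diagonal_conjTranspose]⟩
      map_one' := Subtype.ext (by simp)
      map_mul' f g := Subtype.ext (by simp) }
  top :=
    { toFun σ := ⟨pm σ, by constructor <;> simp [star_pm, pm_mul, pm_one]⟩
      map_one' := Subtype.ext pm_one
      map_mul' σ τ := Subtype.ext (pm_mul σ τ).symm }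
  conj σ f := by
    rw [mul_inv_eq_iff_eq_mul]
    refine Subtype.ext ?_
    ext1 a b
    simp only [MonoidHom.coe_mk, OneHom.coe_mk, Submonoid.coe_mul, mul_diagonal, diagonal_mul,
      pm, of_apply]
    split_ifs with h <;> simp [h]
  inj f σ h := by
    have k : ∀ a, (f a).1 = if a = σ a then 1 else 0 := fun a => by
      simpa [pm] using congrFun (congrFun (congrArg Subtype.val h) a) a
    have k2 : ∀ a, a = σ a := fun a => by
      by_contra e
      have := nrm (f a)
      rw [k, if_neg e] at this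
      simp at this
    exact ⟨funext fun a => Subtype.ext (by rw [k, if_pos (k2 a)]; rfl), Perm.ext fun a => (k2 a).symm⟩

theorem base_coe (f : ι → D F) : ((W ι F).base f).1 = diagonal fun i => (f i).1 := rfl
theorem top_coe (σ : Perm ι) : ((W ι F).top σ).1 = pm σ := rfl

theorem mon_apply (f : ι → D F) (σ : Perm ι) (c d : ι) :
    ((W ι F).base f * (W ι F).top σ : U ι F).1 c d = if c = σ d then (f c).1 else 0 := by
  simp [base_coe, top_coe, pm]

theorem top_mul_apply (σ : Perm ι) (k : U ι F) (c d : ι) :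
    ((W ι F).top σ * k : U ι F).1 c d = k.1 (σ⁻¹ c) d := by
  simp [top_coe, pm, mul_apply, ← Perm.inv_eq_iff_eq]

theorem mul_top_apply (σ : Perm ι) (k : U ι F) (c d : ι) :
    (k * (W ι F).top σ : U ι F).1 c d = k.1 c (σ d) := by
  simp [top_coe, pm, mul_apply]

theorem conj_base_apply (f : ι → D F) (k : U ι F) (a : ι) :
    (k⁻¹ * (W ι F).base f * k : U ι F).1 a a = ∑ c, star (k.1 c a) * (f c).1 * k.1 c a := by
  rw [ucoe_mul, ucoe_mul, mul_apply]
  simp only [base_coe, mul_diagonal, ucoe_inv, star_apply]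

theorem sum_nrm (k : U ι F) (a : ι) : ∑ c, normSq (k.1 c a) = 1 := by
  have := congrArg (fun x : ℍ[F] => x.re) (congrFun (congrFun k.2.1 a) a)
  simp only [mul_apply, star_apply, star_mul_self, one_apply_eq, ← Quaternion.algebraMap_def,
    ← map_sum] at this
  exact this

/-- The diagonal matrix units. -/
def ee (a : ι) : MR ι F := single a a 1

theorem e_coe (a : ι) (y : D F) : ((W ι F).e a y).1 = 1 - ee a + single a a y.1 := by
  rw [WrData.e_apply, base_coe]
  ext1 c d
  by_cases h : c = d
  · subst h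
    by_cases h : c = a
    · subst h; simp [ee]
    · simp [ee, h, Ne.symm h]
  · have : ¬ (a = c ∧ a = d) := fun e => h (e.1.symm.trans e.2)
    simp [ee, h, single_apply_of_ne _ _ _ _ _ this]

theorem single_coe (a : ι) (r : F) : single a a (r : ℍ[F]) = r • (ee a : MR ι F) := by
  rw [ee, smul_single, ← Quaternion.coe_one, Quaternion.smul_coe, mul_one]

theorem ee_ne (a : ι) : (ee a : MR ι F) ≠ 0 := fun h => by
  simpa [ee] using congrFun (congrFun h a) a

/-- The basic involutions. -/
def z (a : ι) : U ι F := (W ι F).e a (-1)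

theorem z_coe (a : ι) : (z a : U ι F).1 = rf F (ee a) := by
  rw [z, e_coe, rf, cneg, ← single_neg, two_smul, ← sub_sub, ← sub_eq_add_neg]; rfl

theorem zz (a : ι) : (z a * z a : U ι F) = 1 := by rw [z, ← map_mul]; simp

/-- Rank one projections. -/
def pj (a : ι) (k : U ι F) : MR ι F := k.1 * ee a * star k.1

theorem pj_apply (a : ι) (k : U ι F) (c d : ι) : pj a k c d = k.1 c a * star (k.1 d a) := by
  simp [pj, ee, mul_apply (M := _ * _), star_apply]
  rw [Finset.sum_eq_single a] <;> simp +contextual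

theorem ee_ee (a : ι) : (ee a * ee a : MR ι F) = ee a := by
  rw [ee, single_mul_single_same, one_mul]

theorem ee_ee' (a : ι) (x : MR ι F) : ee a * (ee a * x) = ee a * x := by rw [← mul_assoc, ee_ee]

theorem pj_one (a : ι) : pj a (1 : U ι F) = ee a := by
  rw [pj, ucoe_one, star_one, one_mul, mul_one]

theorem pj_mul (a : ι) (g k : U ι F) : pj a (g * k) = g.1 * pj a k * star g.1 := by
  simp only [pj, mul_assoc, ucoe_mul, star_mul]

theorem conj_e_coe (a : ι) (k : U ι F) (y : D F) : (k * (W ι F).e a y * k⁻¹ : U ι F).1 =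
    1 - pj a k + k.1 * single a a y.1 * star k.1 := by
  simp only [ucoe_mul, ucoe_inv, e_coe, pj, mul_add, add_mul, mul_sub, sub_mul, mul_one, ms]

theorem conj_z_coe (a : ι) (k : U ι F) : (k * z a * k⁻¹ : U ι F).1 = rf F (pj a k) := by
  simp only [ucoe_mul, ucoe_inv, z_coe, rf, pj, mul_sub, sub_mul, mul_one, ms, mul_smul_comm,
    smul_mul_assoc]

theorem pj_pj (a : ι) (k y : U ι F) :
    pj a k * (pj a y * pj a k) = normSq ((k⁻¹ * y : U ι F).1 a a) • pj a k := by
  have : pj a k * (pj a y * pj a k) = k.1 * (ee a * (k⁻¹ * y : U ι F).1 * ee a *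
      (ee a * star (k⁻¹ * y : U ι F).1 * ee a)) * star k.1 := by
    simp only [pj, mul_assoc, ee_ee', ucoe_mul, ucoe_inv, star_mul, star_star]
  rw [this, ee, single_mul_mul_single, single_mul_mul_single, single_mul_single_same, star_apply,
    one_mul, mul_one, one_mul, mul_one, self_mul_star, single_coe, pj, mul_smul_comm,
    smul_mul_assoc]

theorem pj_idem (a : ι) (k : U ι F) : pj a k * pj a k = pj a k := by
  simp only [pj, mul_assoc, sm', ee_ee']

theorem pj_ne (a : ι) (k : U ι F) : pj a k ≠ 0 := fun h => by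
  have := pj_mul a k⁻¹ k
  rw [inv_mul_cancel, pj_one, h, mul_zero, zero_mul] at this
  exact ee_ne a this

theorem pr (a : ι) (k : U ι F) : Pr (ee a) (pj a k) (normSq (k.1 a a)) where
  ee := by rw [← pj_one, pj_idem]
  ff := pj_idem a k
  efe := by simpa only [pj_one, inv_one, one_mul] using pj_pj a 1 k
  fef := by simpa only [pj_one, mul_one, ucoe_inv, star_apply, normSq_star] using pj_pj a k 1

theorem mem_mon {g : U ι F} (h : ∀ a, ∃ c, ∀ d, d ≠ c → g.1 d a = 0) : g ∈ (W ι F).sub ⊤ ⊤ := by
  choose ρ hρ using h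
  have h1 : ∀ a, normSq (g.1 (ρ a) a) = 1 := fun a => by
    rw [← sum_nrm g a, Finset.sum_eq_single (ρ a) (fun d _ hd => by simp [hρ a d hd]) (by simp)]
  have h2 : Function.Injective ρ := fun a b e => by
    by_contra hab
    have := congrFun (congrFun g.2.1 a) b
    rw [mul_apply, Finset.sum_eq_single (ρ b) (fun d _ hd => by simp [hρ b d hd]) (by simp),
      one_apply_ne hab, star_apply] at this
    have := congrArg normSq this
    rw [map_mul, normSq_star, h1, ← e, h1] at this
    simp at this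
  let σ := Equiv.ofBijective ρ (Finite.injective_iff_bijective.1 h2)
  refine ⟨fun c => ⟨g.1 c (σ.symm c), mem_un.2 ?_⟩, fun _ => trivial, σ, trivial, Subtype.ext ?_⟩
  · conv_lhs => rw [← σ.apply_symm_apply c, σ.symm_apply_apply]
    exact h1 _
  · ext1 c d
    rw [mon_apply]
    split_ifs with e
    · simp [e]
    · exact hρ d c e

variable (h2 : (2 : F) ≠ 0)
include h2

theorem eq_zero_of_pm {s t : F} (hs : s = 0 ∨ s = 1) (h1 : s + 2 * t = 0 ∨ s + 2 * t = 1)
    (h3 : s - 2 * t = 0 ∨ s - 2 * t = 1) : t = 0 := by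
  by_contra ht
  have k : ∀ c : F, c * t = 0 → c = 0 := fun c h => (mul_eq_zero.1 h).resolve_right ht
  rcases hs with rfl | rfl <;> rcases h1 with h1 | h1 <;> rcases h3 with h3 | h3 <;>
    first | exact h2 (k _ (by linear_combination h1)) | exact h2 (k _ (by linear_combination -h3))
          | exact h2 (by linear_combination h1 + h3) | exact h2 (by linear_combination -h1 - h3)

theorem quat_zero {u v : ℍ[F]} (hu : normSq u = 1) (hv : normSq v = 0 ∨ normSq v = 1)
    (H : ∀ x ∈ Q8 F, ∀ y ∈ Q8 F, normSq (star u * x.1 * u + star v * y.1 * v - ((normSq v : F) : ℍ[F])) = 0 ∨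
      normSq (star u * x.1 * u + star v * y.1 * v - ((normSq v : F) : ℍ[F])) = 1) : v = 0 := by
  have e : ∀ x y : ℍ[F], normSq (star u * x * u + star v * y * v - ((normSq v : F) : ℍ[F])) =
      normSq (x + star (v * star u) * y * (v * star u) - ((normSq v : F) : ℍ[F])) := fun x y => by
    have : ∀ t : ℍ[F], normSq t = normSq (u * t * star u) := fun t => by simp [hu]
    rw [this]
    congr 1
    simp only [mul_add, add_mul, mul_sub, sub_mul, ← mul_assoc, self_mul_star, hu, star_mul,
      star_star, ← coe_commutes, Quaternion.coe_one, one_mul]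
    simp only [mul_assoc, self_mul_star, hu, Quaternion.coe_one, mul_one]
  simp only [e] at H
  have hw : normSq (v * star u) = normSq v := by simp [hu]
  suffices v * star u = 0 by
    rw [← mul_one v, ← Quaternion.coe_one, ← hu, ← star_mul_self, ← mul_assoc, this, zero_mul]
  generalize v * star u = w at H hw
  rw [← hw] at H hv
  have hs : 1 + 2 * normSq w ^ 2 = 0 ∨ 1 + 2 * normSq w ^ 2 = 1 := by
    rcases hv with hv | hv
    · simp [hv]
    · have := H _ m1_mem _ m1_mem
      rw [cneg, OneMemClass.coe_one, mul_neg, mul_one, neg_mul, star_mul_self, hv,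
        ← Quaternion.coe_one, ← coe_neg, ← coe_add, ← coe_sub, normSq_coe] at this
      rcases this with e | e
      · left; rw [hv]; linear_combination -(pow_eq_zero_iff two_ne_zero).1 e
      · exact absurd (show (2 : F) ^ 3 = 0 by linear_combination e) (pow_ne_zero _ h2)
  have k : ∀ x ∈ Q8 F, ∀ y ∈ Q8 F, x.1.re = 0 → y.1.re = 0 →
      (x.1 * star (star w * y.1 * w)).re = 0 := fun x hx y hy hx0 hy0 => by
    have n1 := nrm x
    have n2 : normSq (star w * y.1 * w) = normSq w ^ 2 := by simp [nrm, sq]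
    have n3 : (star w * y.1 * w).re = 0 := by simp [hy0]; ring
    refine eq_zero_of_pm h2 hs ?_ ?_
    · convert H x hx y hy using 2 <;> generalize star w * y.1 * w = n at * <;>
        generalize normSq w = δ at * <;> simp only [normSq_def'] at n1 n2 ⊢ <;>
        simp [hx0, n3] at n1 n2 ⊢ <;> linear_combination -n1 - n2
    · convert H _ (neg_mem_of le_rfl hx) y hy using 2 <;> generalize star w * y.1 * w = n at * <;>
        generalize normSq w = δ at * <;> simp only [normSq_def'] at n1 n2 ⊢ <;>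
        simp [hx0, n3] at n1 n2 ⊢ <;> linear_combination -n1 - n2
  have a1 := k _ i_mem _ i_mem rfl rfl
  have a2 := k _ j_mem _ j_mem rfl rfl
  have a3 := k _ k_mem _ k_mem rfl rfl
  have a4 := k _ j_mem _ i_mem rfl rfl
  have a5 := k _ k_mem _ i_mem rfl rfl
  simp [qi, qj, qk] at a1 a2 a3 a4 a5
  have h0 : normSq w = 0 := pow_eq_zero_iff two_ne_zero |>.1 (by
    rw [normSq_def']
    linear_combination (w.re ^ 2 + w.imI ^ 2 - w.imJ ^ 2 - w.imK ^ 2) * a1 +
      2 * (w.imI * w.imJ - w.re * w.imK) * a4 + 2 * (w.imI * w.imK + w.re * w.imJ) * a5)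
  rw [normSq_def'] at h0
  have q : ∀ t : F, 2 ^ 2 * t ^ 2 = 0 → t = 0 := fun t h =>
    pow_eq_zero_iff two_ne_zero |>.1 ((mul_eq_zero.1 h).resolve_left (pow_ne_zero _ h2))
  exact qext_iff.2 ⟨q _ (by linear_combination h0 + a1 + a2 + a3),
    q _ (by linear_combination h0 + a1 - a2 - a3), q _ (by linear_combination h0 - a1 + a2 - a3),
    q _ (by linear_combination h0 - a1 - a2 + a3)⟩

theorem le_mon {T : Subgroup (Perm ι)} (hT : ∀ a b, ∃ σ ∈ T, σ a = b) {K : Subgroup (U ι F)}
    (hS : (W ι F).sub (Q8 F) T ≤ K) (a : ι)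
    (H : ∀ k ∈ K, normSq (k.1 a a) = 0 ∨ normSq (k.1 a a) = 1) : K ≤ (W ι F).sub ⊤ ⊤ := by
  have key : ∀ k ∈ K, ∃ c, ∀ d, d ≠ c → k.1 d a = 0 := fun k hk => by
    have h1 : ∀ c, normSq (k.1 c a) = 0 ∨ normSq (k.1 c a) = 1 := fun c => by
      obtain ⟨σ, hσ, rfl⟩ := hT a c
      simpa only [top_mul_apply, inv_inv] using
        H _ (mul_mem (hS ((W ι F).top_mem_sub _ (inv_mem hσ))) hk)
    obtain ⟨c, -, hc⟩ := Finset.exists_ne_zero_of_sum_ne_zero ((sum_nrm k a).trans_ne one_ne_zero)
    replace hc := (h1 c).resolve_left hc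
    refine ⟨c, fun d hd => quat_zero h2 hc (h1 d) fun x hx y hy => ?_⟩
    have := H _ (mul_mem (mul_mem (inv_mem hk) (hS ((W ι F).base_mem_sub T
      (f := Pi.mulSingle c x * Pi.mulSingle d y) fun i => mul_mem ?_ ?_))) hk)
    · rw [conj_base_apply] at this
      have e1 := sum_nrm k a
      rw [← Finset.add_sum_erase _ _ (Finset.mem_univ c),
        ← Finset.add_sum_erase _ _ (Finset.mem_erase.2 ⟨hd, Finset.mem_univ d⟩)] at this e1
      have e2 : ∑ i ∈ (Finset.univ.erase c).erase d, star (k.1 i a) *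
          ((Pi.mulSingle c x * Pi.mulSingle d y : ι → D F) i).1 * k.1 i a = -((normSq (k.1 d a) : F) : ℍ[F]) := by
        rw [← coe_neg, show -normSq (k.1 d a) = ∑ i ∈ (Finset.univ.erase c).erase d,
          normSq (k.1 i a) by linear_combination hc - e1, ← Quaternion.algebraMap_def, map_sum]
        refine Finset.sum_congr rfl fun i hi => ?_
        simp only [Finset.mem_erase] at hi
        simp [hi.1, hi.2.1, star_mul_self]
      rw [e2] at this
      simpa [hd, hd.symm, sub_eq_add_neg, add_assoc] using this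
    · by_cases e : i = c
      · subst e; simpa
      · simp [e]
    · by_cases e : i = d
      · subst e; simpa
      · simp [e]
  refine fun k hk => mem_mon fun b => ?_
  obtain ⟨σ, hσ, rfl⟩ := hT a b
  simpa only [mul_top_apply] using
    key _ (mul_mem hk (hS ((W ι F).top_mem_sub _ hσ)))

end Cfsg.Agent.Class.PronSp
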