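import Mathlib
import Cfsg.Agent.Class.PronSp.Mat

/-!
The `Z*` argument: if no two conjugates of the basic involution generate a dihedral group of
order 8, the diagonal entries have norm `0` or `1`.
-/

set_option autoImplicit false
set_option linter.unusedSectionVars false

namespace Cfsg.Agent.Class.PronSp

open Subgroup Quaternion Matrix Cfsg Cfsg.Agent.PLocal.Amb Equiv
open Cfsg.Agent.Class.Wr (WrData)
open scoped commutatorElement

section Ring

variable {F R : Type*} [Field F] [Ring R] [Algebra F R]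

theorem rf_inj (h2 : (2 : F) ≠ 0) {e g : R} (h : rf F e * g = g * rf F e) : e * g = g * e := by
  refine smul_right_injective _ h2 ?_
  simp only [rf, mul_sub, sub_mul, mul_one, one_mul, smul_mul_assoc, mul_smul_comm] at h
  linear_combination (norm := module) -h

theorem rf_sq {e : R} (h : e * e = e) : rf F e * rf F e = 1 := by
  simp only [rf, mul_sub, sub_mul, mul_one, one_mul, smul_mul_assoc, mul_smul_comm, h]
  module

namespace Pr

variable {e f : R} {δ : F} (h : Pr e f δ)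
include h

theorem pow_four (hδ : 2 * δ = 1) : (rf F e * rf F f) ^ 4 = 1 := by
  have := congrArg (Polynomial.aeval (rf F e * rf F f)) (show (Polynomial.X ^ 4 - 1 : Polynomial F) =
    (Polynomial.X - 1) * (Polynomial.X ^ 2 - Polynomial.C (4 * δ - 2) * Polynomial.X + 1) *
      (Polynomial.X + 1) by
    rw [show (4 * δ - 2 : F) = 0 by linear_combination 2 * hδ, Polynomial.C_0]; ring)
  rwa [map_mul, h.poly, zero_mul, map_sub, map_pow, Polynomial.aeval_X, map_one, sub_eq_zero] at this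

theorem pi_facts (h1 : δ ≠ 1) {π : R} (hπ : π = (1 - δ)⁻¹ • ((e - f) * (e - f))) :
    π * e = e ∧ e * π = e ∧ π * f = f ∧ f * π = f ∧ π * π = π ∧
      π - e = (1 - δ)⁻¹ • ((1 - e) * (f * (1 - e))) := by
  have := sub_ne_zero.2 h1.symm
  refine ⟨?_, ?_, ?_, ?_, ?_, ?_⟩ <;>
  · simp only [hπ, mul_sub, sub_mul, mul_assoc, mul_one, one_mul, smul_mul_assoc, mul_smul_comm,
      h.ee, h.ff, h.efe, h.fef, h.ee', h.ff']
    match_scalars <;> field_simp <;> ring

theorem eq_pi_sub (h1 : δ ≠ 1) {π : R} (hπ : π = (1 - δ)⁻¹ • ((e - f) * (e - f))) {g : R}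
    (gg : g * g = g) (g0 : g ≠ 0) (k1 : π * g = g) (k2 : g * π = g) (k3 : e * g = 0)
    (k4 : g * e = 0) {μ : F} (k5 : f * (g * f) = μ • f) : g = π - e := by
  obtain ⟨a1, a2, -, -, a5, a6⟩ := h.pi_facts h1 hπ
  have b1 : g = ((1 - δ)⁻¹ * μ) • (π - e) := by
    calc g = (π - e) * (g * (π - e)) := by
          rw [mul_sub, k2, k4, sub_zero, sub_mul, k1, k3, sub_zero]
      _ = ((1 - δ)⁻¹ * (1 - δ)⁻¹) • ((1 - e) * (f * (((1 - e) * g * (1 - e)) * f) * (1 - e))) := by
          rw [a6]; simp only [smul_mul_assoc, mul_smul_comm, smul_smul, mul_assoc]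
      _ = _ := by
          rw [sub_mul _ e g, k3, sub_zero, one_mul, mul_sub g, k4, sub_zero, mul_one, k5, a6]
          simp only [smul_mul_assoc, mul_smul_comm, smul_smul]
          congr 1; ring
  have b2 : (π - e) * (π - e) = π - e := by
    rw [mul_sub, sub_mul, sub_mul, a1, a2, a5, h.ee, sub_self, sub_zero]
  generalize (1 - δ)⁻¹ * μ = l at b1
  have b3 : (l - 1) • g = 0 := by
    rw [sub_smul, one_smul, sub_eq_zero]
    conv_rhs => rw [← gg]
    rw [b1, smul_mul_smul_comm, b2, smul_smul]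
  rw [b1, sub_eq_zero.1 ((smul_eq_zero.1 b3).resolve_right g0), one_smul]

end Pr

end Ring

theorem commute_of_odd {G : Type*} [Group G] {a g : G} {n : ℕ} (hn : Odd n)
    (h1 : Commute a (g ^ 2)) (h2 : Commute a (g ^ n)) : Commute a g := by
  obtain ⟨k, rfl⟩ := hn
  have := (h1.pow_right k).inv_right.mul_right h2
  rwa [pow_succ g (2 * k), pow_mul, inv_mul_cancel_left] at this

variable {F : Type*} [Field F] {ι : Type*} [Fintype ι] [DecidableEq ι]

/-- The elements acting trivially on a subspace. -/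
def Fx (ρ : MR ι F) : Subgroup (U ι F) where
  carrier := {y | y.1 * ρ = ρ ∧ ρ * y.1 = ρ}
  one_mem' := ⟨one_mul _, mul_one _⟩
  mul_mem' := fun {a b} ha hb => ⟨by rw [ucoe_mul, mul_assoc, hb.1, ha.1],
    by rw [ucoe_mul, ← mul_assoc, ha.2, hb.2]⟩
  inv_mem' := fun {a} ha => ⟨by rw [ucoe_inv, ← ha.1, sm', ha.1],
    by rw [ucoe_inv, ← ha.2, mul_assoc, ms, mul_one, ha.2]⟩

theorem star_pj (a : ι) (k : U ι F) : star (pj a k) = pj a k := by
  ext1 c d; simp [star_apply, pj_apply]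

theorem star_smul' (r : F) (M : MR ι F) : star (r • M) = r • star M := by
  ext1 c d; simp only [star_apply, Matrix.smul_apply, Quaternion.star_smul]

theorem odd_oc (G : Type*) [Group G] [Finite G] : Odd (Nat.card (oddCore G)) :=
  Nat.coprime_two_right.1 (Grp.pPrimeCore_coprime 2 G)

theorem commute_of_sq {G : Type*} [Group G] {s t : G} (hs : s * s = 1) (ht : t * t = 1)
    (h : (s * t) ^ 2 = 1) : s * t = t * s := by
  rw [sq, mul_eq_one_iff_eq_inv, _root_.mul_inv_rev, inv_eq_of_mul_eq_one_left hs,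
    inv_eq_of_mul_eq_one_left ht] at h
  exact h

theorem zstar_abs {G : Type*} [Group G] [Finite G] {K0 A : Subgroup G} (hA : IsPGroup 2 A)
    (hAK : A ≤ K0) {z i c : G} (hzA : z ∈ A) (hiA : i ∈ A) (zz : z * z = 1) (cc : c * c = 1)
    (hc : ∀ y ∈ K0, Commute c y) (hz1 : z ≠ 1) (hzc : z ≠ c) {p : ℕ} (hpp : p.Prime)
    (H1 : ∀ y ∈ K0, (z * (y * z * y⁻¹)) ^ 4 = 1 → y * z * y⁻¹ = z ∨ y * z * y⁻¹ * z = c)
    (H2 : ∀ y ∈ K0, ∀ γ, Commute z γ → ⁅z, y⁆ * (i * ⁅z, y⁆ * i⁻¹) = γ * (i * ⁅z, y⁆ * i⁻¹ * ⁅z, y⁆) →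
      ⁅z, y⁆ ^ (4 * p) = 1) {w : G} (hw : w ∈ K0) (ww : w * w = 1) :
    ∃ n, (z * w) ^ (4 * p ^ n) = 1 := by
  have hz := hAK hzA
  have hi := hAK hiA
  have cz : ∀ y : G, y * z * y⁻¹ * (y * z * y⁻¹) = 1 := fun y => Inv.conj_mul_self zz y
  have mc : ∀ y ∈ zpowers c, y = 1 ∨ y = c := by
    rintro _ ⟨n, rfl⟩
    obtain ⟨m, rfl | rfl⟩ := Int.even_or_odd' n <;>
      simp [_root_.zpow_add, _root_.zpow_mul, sq, cc]
  have mc2 : ∀ y ∈ zpowers c, y ^ 2 = 1 := fun y hy => by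
    rcases mc y hy with rfl | rfl <;> simp [sq, cc]
  let C0 := (zpowers c).subgroupOf K0
  have : C0.Normal := ⟨fun n hn g => by
    have : Commute (n : G) g := by
      rcases mc n.1 hn with e | e <;> rw [e]
      exacts [Commute.one_left _, hc _ g.2]
    change (g * n * (g : G)⁻¹ : G) ∈ zpowers c
    rwa [← this.eq, mul_inv_cancel_right]⟩
  let φ := QuotientGroup.mk' C0
  have hφ : ∀ y : K0, φ y = 1 ↔ y.1 ∈ zpowers c := fun y => QuotientGroup.eq_one_iff y
  have zi : z⁻¹ = z := inv_eq_of_mul_eq_one_left zz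
  have iso : IsIsolatedInvolution (φ ⟨_, hz⟩) := by
    refine ⟨Inv.orderOf_eq_two_of_mul_self (fun e => ?_) (by
      rw [← map_mul, ← map_one φ]; congr 1; exact Subtype.ext zz), fun g hg => ?_⟩
    · exact (mc _ ((hφ _).1 e)).elim hz1 hzc
    obtain ⟨y, rfl⟩ := QuotientGroup.mk'_surjective C0 g
    change Commute _ (φ y * _ * (φ y)⁻¹) at hg
    change φ y * _ * (φ y)⁻¹ = _
    rw [← map_inv, ← map_mul, ← map_mul] at hg ⊢
    rw [← commutatorElement_eq_one_iff_commute, ← map_commutatorElement, hφ] at hg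
    have b := mc2 _ hg
    change ⁅z, y.1 * z * y.1⁻¹⁆ ^ 2 = 1 at b
    rw [commutatorElement_def, zi, inv_eq_of_mul_eq_one_left (cz y), mul_assoc, ← sq,
      ← pow_mul] at b
    rcases H1 _ y.2 b with e | e
    · congr 1
      exact Subtype.ext e
    · rw [← mul_inv_eq_one, ← map_inv, ← map_mul, hφ]
      change y.1 * z * y.1⁻¹ * z⁻¹ ∈ _
      rw [zi, e]
      exact mem_zpowers c
  obtain ⟨n, hn⟩ := pow_eq_one_of_inverted (O := oddCore (K0 ⧸ C0)) (odd_oc _)
    (A := (A.subgroupOf K0).map φ) (hA.comap_subtype.map _) (z := φ ⟨_, hz⟩) (i := φ ⟨_, hi⟩)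
    (mem_map_of_mem _ hzA) (mem_map_of_mem _ hiA) hpp
    (fun g hg hcm => by
      obtain ⟨y, rfl⟩ := QuotientGroup.mk'_surjective C0 g
      change φ y ∈ _ at hg
      change Commute _ ⁅⁅_, φ y⁆, _ * ⁅_, φ y⁆ * _⁆ at hcm
      change ⁅_, φ y⁆ ^ _ = 1
      have b0 : ⁅φ ⟨_, hz⟩, φ y⁆ ∈ oddCore _ :=
        mul_mem ((inferInstance : (oddCore _).Normal).conj_mem _ hg _) (inv_mem hg)
      have b1 : ⁅⁅φ ⟨_, hz⟩, φ y⁆, φ ⟨_, hi⟩ * ⁅φ ⟨_, hz⟩, φ y⁆ * (φ ⟨_, hi⟩)⁻¹⁆ ∈ oddCore _ := by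
        have := (inferInstance : (oddCore _).Normal).conj_mem _ b0 (φ ⟨_, hi⟩)
        exact mul_mem (mul_mem (mul_mem b0 this) (inv_mem b0)) (inv_mem this)
      rw [← map_commutatorElement, ← map_inv, ← map_mul, ← map_mul, ← map_commutatorElement]
        at hcm b1
      rw [← map_commutatorElement, ← map_pow]
      generalize hγ : ⁅⁅(⟨_, hz⟩ : K0), y⁆, ⟨_, hi⟩ * ⁅(⟨_, hz⟩ : K0), y⁆ * (⟨_, hi⟩ : K0)⁻¹⁆ = γ
        at hcm b1
      have b2 : Commute z γ.1 := by
        refine commute_of_odd (n := orderOf (φ γ)) (Odd.of_dvd_nat (odd_oc _)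
          ((oddCore _).orderOf_dvd_natCard b1)) ?_ ?_
        · rw [← commutatorElement_eq_one_iff_commute, ← map_commutatorElement, hφ] at hcm
          have b3 := mul_inv_eq_iff_eq_mul.1 (mul_inv_eq_iff_eq_mul.1
            (commutatorElement_def z γ.1).symm)
          change ⁅z, γ.1⁆ ∈ _ at hcm
          generalize ⁅z, γ.1⁆ = t at hcm b3
          have b4 : Commute t γ.1 := by
            rcases mc _ hcm with rfl | rfl
            exacts [Commute.one_left _, hc _ γ.2]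
          change _ * _ = _ * _
          rw [sq, ← mul_assoc, b3, mul_assoc, b3, ← mul_assoc, ← mul_assoc, mul_assoc t, ← b4.eq,
            ← mul_assoc, ← sq, mc2 _ hcm, one_mul]
        · have := (hφ (γ ^ orderOf (φ γ))).1 (by rw [map_pow, pow_orderOf_eq_one])
          rcases mc _ this with e | e <;> rw [← SubgroupClass.coe_pow, e]
          exacts [Commute.one_right _, (hc _ hz).symm]
      rw [← map_one φ]
      congr 1
      refine Subtype.ext (H2 _ y.2 _ b2 ?_)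
      rw [← hγ]
      change _ = ⁅⁅z, y.1⁆, i * ⁅z, y.1⁆ * i⁻¹⁆ * _
      rw [commutatorElement_def ⁅z, y.1⁆]; group)
    (x := ⁅φ ⟨_, hz⟩, φ ⟨_, hw⟩⁆) (Inv.ZStar.commutator_mem_oddCore_of_isolated iso _) (by
      rw [commutatorElement_def, Inv.isolated_inv iso, _root_.mul_inv_rev, _root_.mul_inv_rev,
        _root_.mul_inv_rev, Inv.isolated_inv iso, inv_inv]
      simp only [← mul_assoc, Inv.isolated_mul_self iso, one_mul])
  rw [← map_commutatorElement, ← map_pow, hφ] at hn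
  have b := mc2 _ hn
  change (⁅z, w⁆ ^ p ^ n) ^ 2 = 1 at b
  rw [commutatorElement_def, zi, inv_eq_of_mul_eq_one_left ww, mul_assoc, ← sq, ← pow_mul,
    ← pow_mul, show 2 * (p ^ n * 2) = 4 * p ^ n by ring] at b
  exact ⟨n, b⟩

theorem cm_coe (a : ι) (y : U ι F) : (z a * (y * z a * y⁻¹)).1 = rf F (ee a) * rf F (pj a y) := by
  rw [ucoe_mul, z_coe, conj_z_coe]

theorem cm_eq (a : ι) (y : U ι F) : ⁅(z a : U ι F), y⁆ = z a * (y * z a * y⁻¹) := by
  rw [commutatorElement_def, inv_eq_of_mul_eq_one_left (zz a)]; group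

theorem pow_of_comm (h2 : (2 : F) ≠ 0) {p : ℕ} [Fact p.Prime] [CharP F p] (a : ι) (y γ : U ι F)
    (b2 : Commute (z a) γ) (b5 : ⁅(z a : U ι F), y⁆ * ((W ι F).e a qi * ⁅(z a : U ι F), y⁆ *
      ((W ι F).e a qi)⁻¹) = γ * ((W ι F).e a qi * ⁅(z a : U ι F), y⁆ * ((W ι F).e a qi)⁻¹ *
      ⁅(z a : U ι F), y⁆)) : ⁅(z a : U ι F), y⁆ ^ (4 * p) = 1 := by
  have hp2 : p ≠ 2 := by rintro rfl; exact h2 (CharP.cast_eq_zero F 2)
  rw [← map_inv, i_inv] at b5
  have b6 : ⁅(z a : U ι F), y⁆.1 = rf F (ee a) * rf F (pj a y) := by rw [cm_eq, cm_coe]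
  have b7 := (pr a y).pow_eq_one hp2 ((pr a y).cases_of_comm h2 (ee_ne a)
    (I := single a a qi.1) (γ := γ.1) (by rw [ee, single_mul_single_same, one_mul])
    (by rw [ee, single_mul_single_same, mul_one])
    (by rw [single_mul_single_same, ← Submonoid.coe_mul, ii, ee, single_neg]; rfl)
    (rf_inj h2 (by simpa only [ucoe_mul, z_coe] using congrArg Subtype.val b2.eq))
    (by simpa only [ucoe_mul, b6, e_coe, cneg, ← single_neg, ← sub_eq_add_neg] using
      congrArg Subtype.val b5))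
  refine Subtype.ext ?_
  rw [SubmonoidClass.coe_pow, b6, b7, ucoe_one]

theorem e_mem_Fx {a : ι} {π : MR ι F} (a1 : π * ee a = ee a) (a2 : ee a * π = ee a) (q : D F) :
    (W ι F).e a q ∈ Fx (1 - π) := by
  have b1 : ee a * single a a q.1 = single a a q.1 := by rw [ee, single_mul_single_same, one_mul]
  have b2 : single a a q.1 * ee a = single a a q.1 := by rw [ee, single_mul_single_same, mul_one]
  have b3 : π * single a a q.1 = single a a q.1 := by rw [← b1, ← mul_assoc, a1]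
  have b4 : single a a q.1 * π = single a a q.1 := by rw [← b2, mul_assoc, a2]
  constructor <;>
  · simp only [e_coe, mul_sub, sub_mul, mul_add, add_mul, mul_one, one_mul, a1, a2, b3, b4]
    abel

theorem delta_cases [Finite F] (h2 : (2 : F) ≠ 0) {K : Subgroup (U ι F)} (a : ι)
    (hQ : ∀ q ∈ Q8 F, (W ι F).e a q ∈ K)
    (hB : ∀ k ∈ K, (z a * (k * z a * k⁻¹)) ^ 4 = 1 → (z a * (k * z a * k⁻¹)) ^ 2 = 1)
    {k : U ι F} (hk : k ∈ K) : normSq (k.1 a a) = 0 ∨ normSq (k.1 a a) = 1 := by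
  obtain ⟨p, hp⟩ := CharP.exists F
  have hpp : p.Prime := CharP.char_is_prime F p
  have := Fact.mk hpp
  have cz : ∀ y : U ι F, y * z a * y⁻¹ * (y * z a * y⁻¹) = 1 := fun y => Inv.conj_mul_self (zz a) y
  have hB' : ∀ y ∈ K, (z a * (y * z a * y⁻¹)) ^ 4 = 1 → _ := fun y hy h =>
    (pr a y).cases_of_commute h2 (ee_ne a) (by
      simpa only [ucoe_mul (z a), ucoe_mul _ (z a), z_coe, conj_z_coe] using
        congrArg Subtype.val (commute_of_sq (zz a) (cz y) (hB y hy h)))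
  by_contra! hn
  obtain ⟨h0, h1⟩ := hn
  obtain ⟨π, hπ⟩ : ∃ π, π = (1 - normSq (k.1 a a))⁻¹ • ((ee a - pj a k) * (ee a - pj a k)) :=
    ⟨_, rfl⟩
  obtain ⟨a1, a2, a3, a4, a5, -⟩ := (pr a k).pi_facts h1 hπ
  have a7 : star (rf F π) = rf F π := by
    simp only [hπ, rf, star_sub, star_one, star_smul', star_mul, star_pj, ← pj_one]
  obtain ⟨c, hc⟩ : ∃ c : U ι F, c.1 = rf F π :=
    ⟨⟨rf F π, by rw [Unitary.mem_iff, a7, rf_sq a5, and_self]⟩, rfl⟩
  have b : ∀ t : MR ι F, (z a : U ι F).1 = rf F t → ee a = t := fun t ht => by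
    refine smul_right_injective _ h2 ?_
    rw [z_coe, rf, rf, sub_right_inj] at ht
    exact ht
  obtain ⟨n, hn⟩ := zstar_abs (K0 := K ⊓ Fx (1 - π)) (isPGroup_Q8.map ((W ι F).e a))
    (by rintro _ ⟨q, hq, rfl⟩; exact ⟨hQ q hq, e_mem_Fx a1 a2 q⟩) (z := z a) (c := c)
    (mem_map_of_mem _ m1_mem) (mem_map_of_mem _ i_mem) (zz a)
    (Subtype.ext (by rw [ucoe_mul, hc, rf_sq a5, ucoe_one]))
    (fun y hy => Subtype.ext (by
      obtain ⟨b1, b2⟩ := hy.2
      simp only [ucoe_mul, hc, rf, mul_sub, sub_mul, mul_one, one_mul, smul_mul_assoc,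
        mul_smul_comm] at b1 b2 ⊢
      linear_combination (norm := module) (2 : F) • b2 - (2 : F) • b1))
    (fun e => ee_ne a (b 0 (by rw [e, rf, smul_zero, sub_zero, ucoe_one])))
    (fun e => by
      have b2 := (pr a k).fef
      rw [b π (by rw [e, hc]), a3, pj_idem] at b2
      exact h1 (smul_left_injective F (pj_ne a k) (b2.symm.trans (one_smul _ _).symm))) hpp
    (fun y hy b0 => by
      rcases hB' _ hy.1 b0 with ⟨-, b1, b2⟩ | ⟨-, b1⟩
      · have b3 := (pr a k).eq_pi_sub h1 hπ (pj_idem a y) (pj_ne a _) (by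
          rw [eq_comm, ← sub_eq_zero, ← one_sub_mul, pj, ← mul_assoc, ← mul_assoc, hy.2.2, sub_mul,
            a1, one_mul, sub_self, zero_mul]) (by
          rw [eq_comm, ← sub_eq_zero, ← mul_one_sub, pj, mul_assoc, ← ucoe_inv,
            ((Fx _).inv_mem hy.2).1, mul_assoc, mul_sub, a2, mul_one, sub_self, mul_zero]) b1 b2
          (pj_pj a k y)
        refine .inr (Subtype.ext ?_)
        simp only [ucoe_mul _ (z a), conj_z_coe, z_coe, b3, hc, rf, mul_sub, sub_mul, mul_one,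
          one_mul, smul_mul_assoc, mul_smul_comm, a1, ee_ee]
        module
      · exact .inl (Subtype.ext (by rw [conj_z_coe, b1, z_coe])))
    (fun y _ => pow_of_comm h2 a y) (w := k * z a * k⁻¹)
    ⟨K.mul_mem (K.mul_mem hk (hQ _ m1_mem)) (K.inv_mem hk), by
      constructor <;>
      · simp only [conj_z_coe, rf, mul_sub, sub_mul, mul_one, one_mul, a3, a4, smul_mul_assoc,
          mul_smul_comm]
        module⟩ (cz k)
  have b8 : (z a * (k * z a * k⁻¹)) ^ 4 = 1 := by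
    refine Subtype.ext ?_
    rw [SubmonoidClass.coe_pow, cm_coe, ucoe_one]
    rcases (pr a k).cases_of_pow (p := p) (n := n) h2 (by
      rw [← cm_coe, ← SubmonoidClass.coe_pow, hn, ucoe_one]) with e | e | e | e
    · exact absurd e h0
    · exact absurd e h1
    · exact (pr a k).pow_four e
    · rw [e, one_pow]
  rcases hB' k hk b8 with e | e
  exacts [h0 e.1, h1 e.1]

end Cfsg.Agent.Class.PronSp
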