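import Mathlib
import Cfsg.Agent.Class.PronSp.CaseB

/-!
If two conjugates of the basic involution generate a dihedral group of order 8, an overgroup of
the Sylow subgroup `Q₈ ≀ T` contains the scalar `ω`.  The normalizer of the Sylow subgroup.
-/

set_option autoImplicit false
set_option linter.unusedSectionVars false

namespace Cfsg.Agent.Class.PronSp

open Subgroup Quaternion Matrix Cfsg Cfsg.Agent.PLocal.Amb Equiv
open Cfsg.Agent.Class.Wr (WrData)

section Wr

variable {G A ι : Type*} [Group G] [Group A] [DecidableEq ι] (w : WrData G A ι)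

theorem mon_mem_iff {f : ι → A} {σ : Perm ι} {D₀ : Subgroup A} {T : Subgroup (Perm ι)} :
    w.base f * w.top σ ∈ w.sub D₀ T ↔ (∀ i, f i ∈ D₀) ∧ σ ∈ T :=
  ⟨fun ⟨_, h1, _, h2, e⟩ => by obtain ⟨rfl, rfl⟩ := w.eq_of_mul_eq e; exact ⟨h1, h2⟩,
    fun h => ⟨_, h.1, _, h.2, rfl⟩⟩

theorem mon_conj_e (f : ι → A) (σ : Perm ι) (i : ι) (d : A) :
    w.base f * w.top σ * w.e i d * (w.base f * w.top σ)⁻¹ =
      w.e (σ i) (f (σ i) * d * (f (σ i))⁻¹) := by
  rw [show w.base f * w.top σ * w.e i d * (w.base f * w.top σ)⁻¹ =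
    w.base f * (w.top σ * w.e i d * (w.top σ)⁻¹) * (w.base f)⁻¹ by group, w.top_conj_e, w.e_apply,
    w.e_apply, ← map_inv, ← map_mul, ← map_mul]
  congr 1
  funext j
  by_cases h : j = σ i
  · subst h; simp
  · simp [h]

theorem e_mem_all {T : Subgroup (Perm ι)} (hT : ∀ a b, ∃ σ ∈ T, σ a = b) {K : Subgroup G}
    (hK : ∀ σ ∈ T, w.top σ ∈ K) {a : ι} {d : A} (h : w.e a d ∈ K) (b : ι) : w.e b d ∈ K := by
  obtain ⟨σ, hσ, rfl⟩ := hT a b
  rw [← w.top_conj_e]
  exact mul_mem (mul_mem (hK σ hσ) h) (inv_mem (hK σ hσ))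

theorem diag_mem [Fintype ι] {T : Subgroup (Perm ι)} (hT : ∀ a b, ∃ σ ∈ T, σ a = b)
    (hT2 : IsPGroup 2 T) {K : Subgroup G} (hK : ∀ σ ∈ T, w.top σ ∈ K) {x : A} (hx : x ^ 3 = 1)
    {a b : ι} (h : w.e a x * w.e b x ∈ K) : w.base (fun _ => x) ∈ K := by
  classical
  let M : AddSubmonoid (ι → ℕ) :=
    { carrier := {v | w.base (fun c => x ^ v c) ∈ K}
      zero_mem' := by
        change w.base (fun _ => x ^ 0) ∈ K
        simp only [pow_zero]
        exact (map_one w.base).symm ▸ one_mem K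
      add_mem' := fun {u v} hu hv => by
        have := K.mul_mem hu hv
        rw [← map_mul] at this
        change w.base _ ∈ K
        convert this using 2
        funext c; simp [pow_add] }
  obtain ⟨v, hv⟩ : ∃ v : ι → ℕ, v = Pi.single a 1 + Pi.single b 1 := ⟨_, rfl⟩
  have h0 : w.base (fun c => x ^ v c) ∈ K := by
    rw [w.e_apply, w.e_apply, ← map_mul] at h
    convert h using 2
    funext c
    simp only [hv, Pi.add_apply, pow_add, Pi.mul_apply, Pi.single_apply, Pi.mulSingle_apply]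
    split_ifs <;> simp
  obtain ⟨u, hu⟩ : ∃ u : ι → ℕ, u = ∑ σ : T, fun c => v (σ.1⁻¹ c) := ⟨_, rfl⟩
  have h1 : u ∈ M := hu ▸ sum_mem fun σ _ => by
    have := mul_mem (mul_mem (hK _ σ.2) h0) (inv_mem (hK _ σ.2))
    rwa [w.conj] at this
  have h3 : ∀ c, u c = u a := fun c => by
    obtain ⟨τ, hτ, rfl⟩ := hT a c
    simp only [hu, Finset.sum_apply]
    exact (Fintype.sum_equiv (Equiv.mulLeft ⟨τ, hτ⟩) _ _ fun σ => by simp).symm
  have h4 : Fintype.card ι * u a = Nat.card T * 2 := by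
    rw [← smul_eq_mul, ← Finset.card_univ, ← Finset.sum_const,
      Finset.sum_congr rfl fun c _ => (h3 c).symm]
    simp only [hu, Finset.sum_apply]
    rw [Finset.sum_comm, Finset.sum_congr rfl fun σ _ => Equiv.sum_comp σ.1⁻¹ v]
    simp [hv, Finset.sum_add_distrib]
  obtain ⟨n, hn⟩ := hT2.exists_card_eq
  refine mem_of_pow_mem_of_coprime (n := u a) ?_ (Nat.Coprime.coprime_dvd_left
    (orderOf_dvd_of_pow_eq_one (n := 3) ?_) (Nat.Coprime.coprime_dvd_right (m := 2 ^ (n + 1))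
      ⟨Fintype.card ι, by rw [mul_comm, h4, hn, pow_succ]⟩ (Nat.Coprime.pow_right _ (by norm_num))))
  · rw [← map_pow]
    convert (show w.base _ ∈ K from h1) using 2
    funext c; simp [h3]
  · rw [← map_pow, ← map_one w.base]
    congr 1
    funext c; simp [hx]

theorem top_eq_one {f : ι → A} {σ : Perm ι} {y : A} (hy : y * y ≠ 1)
    (h : ∀ a, Commute (w.base f * w.top σ) (w.e a y * (w.base f * w.top σ) * (w.e a y)⁻¹)) :
    σ = 1 := by
  refine Perm.ext fun a => by_contra fun ha => hy ?_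
  have := (h a).eq
  rw [w.e_apply, ← map_inv, ← mul_assoc (w.base _) (w.base f), ← map_mul,
    mul_assoc (w.base _) (w.top σ) (w.base _),
    w.top_mul_base, ← mul_assoc (w.base _) (w.base _), ← map_mul, w.mul_mul, w.mul_mul] at this
  have h2 : σ.symm a ≠ a := fun e => ha (σ.symm_apply_eq.1 e).symm
  have := congrFun (w.eq_of_mul_eq this).1 (σ a)
  simp only [Perm.one_apply] at ha
  simpa [ha, h2, mul_assoc, eq_inv_iff_mul_eq_one] using this

end Wr

theorem exists_two_group {H : Type*} [Group H] [Finite H] {s t : H} (hs : s * s = 1) (ht : t * t = 1)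
    (h : (s * t) ^ 4 = 1) {K : Subgroup H} (h1 : s ∈ K) (h2 : t ∈ K) :
    ∃ T ≤ K, IsPGroup 2 T ∧ s ∈ T ∧ t ∈ T := by
  have ht' : t⁻¹ = t := inv_eq_of_mul_eq_one_left ht
  refine ⟨zpowers s ⊔ zpowers (s * t), sup_le (zpowers_le.2 h1) (zpowers_le.2 (mul_mem h1 h2)),
    isPGroup_sup (isPGroup_zpowers ⟨1, by rw [pow_one, sq, hs]⟩)
    (isPGroup_zpowers ⟨2, h⟩) ?_, mem_sup_left (mem_zpowers s), ?_⟩
  · refine zpowers_le.2 (mem_normalizer_fintype ?_)
    rintro _ ⟨k, rfl⟩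
    rw [← conj_zpow, ← mul_assoc, hs, one_mul, show t * s⁻¹ = (s * t)⁻¹ by
      rw [_root_.mul_inv_rev, ht']]
    exact zpow_mem (inv_mem (mem_zpowers _)) k
  · have := mul_mem (mem_sup_left (T := zpowers (s * t)) (mem_zpowers s))
      (mem_sup_right (mem_zpowers (s * t)))
    rwa [← mul_assoc, hs, one_mul] at this

variable {F : Type*} [Field F] {ι : Type*} [Fintype ι] [DecidableEq ι]

/-- Two by two blocks. -/
def Bk (a b : ι) (p q r s : ℍ[F]) : MR ι F :=
  1 - ee a - ee b + (single a a p + single a b q + single b a r + single b b s)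

theorem Bk_mul {a b : ι} (h : a ≠ b) (p q r s p' q' r' s' : ℍ[F]) :
    Bk a b p q r s * Bk a b p' q' r' s' =
      Bk a b (p * p' + q * r') (p * q' + q * s') (r * p' + s * r') (r * q' + s * s') := by
  simp only [Bk, ee, mul_add, add_mul, mul_sub, sub_mul, mul_one, one_mul, single_mul_single_same,
    single_mul_single_of_ne _ _ _ _ h, single_mul_single_of_ne _ _ _ _ h.symm, single_add]
  abel

theorem ea_coe (a b : ι) (x : D F) : ((W ι F).e a x).1 = Bk a b x 0 0 1 := by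
  simp only [e_coe, Bk, ee, single_zero]; abel

theorem eb_coe (a b : ι) (x : D F) : ((W ι F).e b x).1 = Bk a b 1 0 0 x := by
  simp only [e_coe, Bk, ee, single_zero]; abel

/-- Conjugation by a quaternion of norm `1/2`. -/
def psi {α : ℍ[F]} (hα : 2 * normSq α = 1) : D F →* D F where
  toFun y := ⟨(2 : F) • (star α * y * α), mem_un.2 (by
    rw [normSq_smul, map_mul, map_mul, nrm, normSq_star]
    linear_combination (2 * normSq α + 1) * hα)⟩
  map_one' := Subtype.ext (by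
    simp only [OneMemClass.coe_one, mul_one, star_mul_self, Quaternion.smul_coe, hα,
      Quaternion.coe_one])
  map_mul' x y := Subtype.ext (by
    simp only [Submonoid.coe_mul, smul_mul_smul_comm, mul_assoc]
    rw [← mul_assoc α, self_mul_star, coe_mul_eq_smul, mul_smul_comm, mul_smul_comm, smul_smul,
      mul_assoc, hα, mul_one])

theorem psi_conj {α : ℍ[F]} (hα : 2 * normSq α = 1) (y : D F) :
    α * (psi hα y).1 * star α = normSq α • y.1 := by
  change α * ((2 : F) • (star α * y * α)) * star α = _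
  simp only [mul_smul_comm, smul_mul_assoc, ← mul_assoc, self_mul_star, coe_mul_eq_smul]
  rw [mul_assoc, self_mul_star, mul_coe_eq_smul, smul_smul, smul_smul, hα, one_mul]

theorem psi_inj {α : ℍ[F]} (hα : 2 * normSq α = 1) : Function.Injective (psi hα) := fun x y h => by
  have := psi_conj hα x
  rw [h, psi_conj] at this
  exact Subtype.ext (smul_right_injective _ (by rintro e; simp [e] at hα) this).symm

theorem tau_coe {a b a0 : ι} {α : ℍ[F]} (hα : 2 * normSq α = 1) {k : U ι F}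
    (hk : k.1 * ee a0 = single a a0 α - single b a0 α) (y : D F) :
    (k * (W ι F).e a0 (psi hα y) * k⁻¹).1 = Bk a b (1 - normSq α • 1 + normSq α • y.1)
      (normSq α • 1 - normSq α • y.1) (normSq α • 1 - normSq α • y.1)
      (1 - normSq α • 1 + normSq α • y.1) := by
  have cs : ∀ t, k.1 * single a0 a0 t * star k.1 = single a a (α * t * star α) -
      single a b (α * t * star α) - single b a (α * t * star α) + single b b (α * t * star α) := by
    intro t
    have : k.1 * single a0 a0 t * star k.1 = k.1 * ee a0 * single a0 a0 t * star (k.1 * ee a0) := by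
      rw [star_mul, ← pj_one, star_pj, pj_one, ← mul_assoc, mul_assoc k.1 (ee a0), ee,
        single_mul_single_same, mul_assoc _ _ (single _ _ 1), single_mul_single_same, one_mul,
        mul_one]
    rw [this, hk]
    simp only [star_sub, star_eq_conjTranspose, conjTranspose_single, sub_mul, mul_sub,
      single_mul_single_same]
    abel
  rw [conj_e_coe, pj, ee, cs, cs, psi_conj, mul_one, self_mul_star, ← mul_one ((normSq α : F) : ℍ[F]),
    coe_mul_eq_smul]
  simp only [Bk, ee, single_add, sub_eq_add_neg, ← single_neg]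
  abel

theorem col_of_swap {a a0 : ι} {k : U ι F} {x : ι → D F} {σ : Perm ι} (ha : σ a ≠ a)
    (h : k * z a0 * k⁻¹ = (W ι F).base x * (W ι F).top σ) :
    2 * normSq (k.1 a a0) = 1 ∧ ((W ι F).e (σ a) (x (σ a))⁻¹ * k).1 * ee a0 =
      single a a0 (k.1 a a0) - single (σ a) a0 (k.1 a a0) := by
  have H : ∀ c, (1 : MR ι F) c a - (2 : F) • (k.1 c a0 * star (k.1 a a0)) =
      if c = σ a then (x c).1 else 0 := fun c => by
    rw [← mon_apply, ← h, conj_z_coe, rf, ← pj_apply]; rfl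
  have h1 : 2 * normSq (k.1 a a0) = 1 := by
    have := H a
    rw [if_neg ha.symm, one_apply_eq, self_mul_star, Quaternion.smul_coe, sub_eq_zero,
      ← Quaternion.coe_one, coe_inj] at this
    exact this.symm
  have H' : ∀ c, (1 : MR ι F) c a * k.1 a a0 - k.1 c a0 =
      (if c = σ a then (x c).1 else 0) * k.1 a a0 := fun c => by
    rw [← H, sub_mul, smul_mul_assoc, mul_assoc, star_mul_self, mul_coe_eq_smul, smul_smul, h1,
      one_smul]
  refine ⟨h1, ?_⟩
  ext1 c d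
  rw [WrData.e_apply, ucoe_mul, base_coe, ee, Matrix.sub_apply]
  by_cases hd : d = a0
  · subst hd
    rw [mul_single_apply_same, diagonal_mul, mul_one]
    by_cases h1 : c = a
    · subst h1; simp [ha, ha.symm]
    have := H' c
    rw [one_apply_ne h1, zero_mul, zero_sub, neg_eq_iff_eq_neg] at this
    by_cases h2 : c = σ a
    · subst h2; simp [this, ha.symm, ← mul_assoc]
    · simp [this, h2, Ne.symm h1, Ne.symm h2]
  · rw [mul_single_apply_of_ne _ _ _ _ _ hd]
    simp [Ne.symm hd]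

theorem pair_mem [Finite F] (h2 : (2 : F) ≠ 0) (S : Sylow 2 (D F)) (hS : (S : Subgroup _) = Q8 F)
    {K : Subgroup (U ι F)} (hK : ∀ c, ∀ q ∈ Q8 F, (W ι F).e c q ∈ K) {a a0 : ι} {k : U ι F}
    (hk : k ∈ K) {x : ι → D F} (hx : ∀ c, x c ∈ Q8 F) {σ : Perm ι} (ha : σ a ≠ a)
    (h : k * z a0 * k⁻¹ = (W ι F).base x * (W ι F).top σ) :
    (W ι F).e a (qw h2) * (W ι F).e (σ a) (qw h2) ∈ K := by
  obtain ⟨hα, h1⟩ := col_of_swap ha h
  replace hk := mul_mem (hK (σ a) _ (inv_mem (hx (σ a)))) hk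
  generalize (W ι F).e (σ a) (x (σ a))⁻¹ * k = k' at h1 hk
  generalize k.1 a a0 = α at hα h1
  generalize σ a = b at ha h1
  obtain ⟨e, he⟩ : ∃ e : D F ≃* D F, ∀ y, e y = psi hα y :=
    ⟨MulEquiv.ofBijective _ (Finite.injective_iff_bijective.1 (psi_inj hα)), fun _ => rfl⟩
  obtain ⟨L, hL⟩ : ∃ L : Subgroup (D F), ∀ y, y ∈ L ↔ k' * (W ι F).e a0 (psi hα y) * k'⁻¹ ∈ K :=
    ⟨K.comap ((MulAut.conj k').toMonoidHom.comp (((W ι F).e a0).comp (psi hα))), fun _ => Iff.rfl⟩
  have h3 : Q8 F ≤ 𝐍[L] := fun q hq => mem_normalizer_fintype fun y hy => by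
    have := mul_mem (mul_mem (mul_mem (hK a q hq) (hK b q hq)) ((hL y).1 hy))
      (inv_mem (mul_mem (hK a q hq) (hK b q hq)))
    refine (hL _).2 (Set.mem_of_eq_of_mem ?_ this)
    rw [eq_mul_inv_iff_mul_eq]
    refine Subtype.ext ?_
    rw [ucoe_mul, ucoe_mul _ (_ * _ * _), tau_coe hα h1, tau_coe hα h1, ucoe_mul, ea_coe a b,
      eb_coe a b, Bk_mul ha.symm, Bk_mul ha.symm, Bk_mul ha.symm]
    congr 1 <;> simp [mul_add, add_mul, mul_sub, sub_mul, mul_assoc]
  have h4 : (Q8 F).comap e.toMonoidHom ≤ L := fun y hy =>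
    (hL y).2 (mul_mem (mul_mem hk (hK _ _ (he y ▸ hy))) (inv_mem hk))
  obtain ⟨g, hg, h5⟩ := ((hS ▸ isSyl_of_le S (hS ▸ h3)).of_card_ge
    (isPGroup_Q8.comap_of_injective e.toMonoidHom e.injective) (h4.trans le_normalizer)
    (by rw [← card_map_of_injective (f := e.toMonoidHom) e.injective (K := (Q8 F).comap _),
      map_comap_eq_self_of_surjective e.surjective])).exists_le_cj isPGroup_Q8 h3
  replace h5 := fun q hq => (hL q).1 (h5.trans (cj_le_of_mem_normalizer h4 hg) hq)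
  have h6 := mul_mem (mul_mem (hK a _ k_mem) (hK b _ m1_mem))
    (mul_mem (mul_mem (h5 _ i_mem) (hK b _ (neg_mem_of le_rfl j_mem))) (h5 _ k_mem))
  refine Set.mem_of_eq_of_mem (Subtype.ext ?_) h6
  rw [ucoe_mul (_ * _), ucoe_mul (_ * _ * _ * _), ucoe_mul (_ * _ * _), tau_coe hα h1,
    tau_coe hα h1, ucoe_mul, ucoe_mul, ea_coe a b, eb_coe a b, ea_coe a b, eb_coe a b, eb_coe a b,
    show normSq α = 2⁻¹ from eq_inv_of_mul_eq_one_right hα]
  simp only [Bk_mul ha.symm]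
  congr 1 <;> rw [qext_iff] <;> simp [qi, qj, qk, qw] <;> field_simp <;> norm_num

theorem diag_facts (h2 : (2 : F) ≠ 0) {a : ι} {k : U ι F} {x : ι → D F}
    (h : k * z a * k⁻¹ = (W ι F).base x * (W ι F).top 1) :
    (∀ y, Commute x y) ∧ ∃ c, ∀ d, d ≠ c → k.1 d a = 0 := by
  have H : ∀ c d, (1 : MR ι F) c d - (2 : F) • (k.1 c a * star (k.1 d a)) =
      if c = d then (x c).1 else 0 := fun c d => by
    rw [← pj_apply]
    exact (congrFun (congrFun (conj_z_coe a k) c) d).symm.trans (h ▸ mon_apply x 1 c d)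
  refine ⟨fun y => funext fun c => Subtype.ext ?_, ?_⟩
  · have := H c c
    rw [if_pos rfl, one_apply_eq, self_mul_star, Quaternion.smul_coe, ← Quaternion.coe_one,
      ← coe_sub] at this
    simp only [Pi.mul_apply, Submonoid.coe_mul, ← this, coe_commutes]
  obtain ⟨c, -, hc⟩ := Finset.exists_ne_zero_of_sum_ne_zero ((sum_nrm k a).trans_ne one_ne_zero)
  refine ⟨c, fun d hd => ?_⟩
  have := congrArg (· * k.1 c a) (H d c)
  simp only [if_neg hd, one_apply_ne hd, zero_sub, neg_mul, zero_mul, neg_eq_zero, smul_mul_assoc,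
    mul_assoc, star_mul_self, mul_coe_eq_smul, smul_smul] at this
  exact (smul_eq_zero.1 this).resolve_left (mul_ne_zero h2 hc)

theorem omega_or_mon [Finite F] (h2 : (2 : F) ≠ 0) (S : Sylow 2 (D F))
    (hS : (S : Subgroup _) = Q8 F) {T : Subgroup (Perm ι)} (hT : ∀ a b, ∃ σ ∈ T, σ a = b)
    (hT2 : IsPGroup 2 T) {K : Subgroup (U ι F)} (hK : IsSyl 2 ((W ι F).sub (Q8 F) T) K) (a : ι) :
    (W ι F).base (fun _ => qw h2) ∈ K ∨ K ≤ (W ι F).sub ⊤ ⊤ := by
  have hQ : ∀ c, ∀ q ∈ Q8 F, (W ι F).e c q ∈ K := fun c q hq => hK.le ((W ι F).e_mem_sub T c hq)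
  by_cases hB : ∀ k ∈ K, (z a * (k * z a * k⁻¹)) ^ 4 = 1 → (z a * (k * z a * k⁻¹)) ^ 2 = 1
  · exact .inr (le_mon h2 hT hK.le a fun k hk => delta_cases h2 a (hQ a) hB hk)
  left
  push Not at hB
  obtain ⟨k, hk, h4, hne⟩ := hB
  have hz : z a ∈ K := hQ a _ m1_mem
  have cz := Inv.conj_mul_self (zz a) k
  obtain ⟨R, hR, hR2, h5, h6⟩ := exists_two_group (zz a) cz h4 hz
    (mul_mem (mul_mem hk hz) (inv_mem hk))
  obtain ⟨g, hg, h7⟩ := hK.exists_cj_le hR2 hR
  have key : ∀ k ∈ K, k * z a * k⁻¹ ∈ (W ι F).sub (Q8 F) T →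
      (W ι F).base (fun _ => qw h2) ∈ K ∨ ∃ x, k * z a * k⁻¹ = (W ι F).base x ∧ ∀ y, Commute x y := by
    rintro k hk ⟨x, hx, σ, -, e⟩
    by_cases hσ : σ = 1
    · subst hσ
      exact .inr ⟨x, by rw [e, map_one, mul_one], (diag_facts h2 e).1⟩
    obtain ⟨b, hb⟩ := not_forall.1 fun h => hσ (Perm.ext h)
    exact .inl (diag_mem _ hT hT2 (fun σ hσ => hK.le ((W ι F).top_mem_sub _ hσ)) (w3 h2)
      (pair_mem h2 S hS hQ hk hx hb e))
  refine (key g hg (h7 (conj_mem_cj g h5))).elim id fun ⟨x, hx, hx'⟩ => ?_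
  have e : g * k * z a * (g * k)⁻¹ = g * (k * z a * k⁻¹) * g⁻¹ := by group
  refine (key (g * k) (mul_mem hg hk) (e ▸ h7 (conj_mem_cj g h6))).elim id fun ⟨y, hy, _⟩ => ?_
  have := (hx' y).map (W ι F).base
  rw [← hx, ← hy, e, Commute.conj_iff] at this
  exact absurd (by rw [this.mul_pow, sq, sq, zz, cz, one_mul]) hne

theorem norm_S [Finite F] (h2 : (2 : F) ≠ 0) {D₀ : Subgroup (D F)} (hD : Q8 F ≤ D₀)
    {T : Subgroup (Perm ι)} (hT : ∀ a b, ∃ σ ∈ T, σ a = b) (hN : 𝐍[T] ≤ T) (a : ι) {g : U ι F}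
    (hg : g ∈ 𝐍[(W ι F).sub D₀ T]) :
    ∃ n ∈ 𝐍[D₀], ∃ s ∈ (W ι F).sub D₀ T, g = (W ι F).base (fun _ => n) * s := by
  obtain ⟨f, -, ρ, -, rfl⟩ : g ∈ (W ι F).sub ⊤ ⊤ := mem_mon fun b => by
    obtain ⟨x, -, σ, -, e⟩ := conj_mem_of_mem_normalizer hg ((W ι F).e_mem_sub T b (hD m1_mem))
    obtain rfl : σ = 1 := top_eq_one (W ι F) (f := x) (y := qi) (by
      rw [ii]; intro e; simpa [h2, (one_ne_neg h2).symm] using congrArg (·.1.re) e) fun c => by
      obtain ⟨f, -, τ, -, e'⟩ :=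
        inv_conj_mem_of_mem_normalizer hg ((W ι F).e_mem_sub T c (hD i_mem))
      have h3 := mon_conj_e (W ι F) f τ b (-1)
      rw [mul_neg_one, neg_mul, mul_inv_cancel, ← e'] at h3
      have h4 : Commute ((W ι F).e b (-1)) ((W ι F).e (τ b) (-1)) := by
        by_cases h : b = τ b
        · rw [← h]
        · exact (W ι F).commute_e h _ _
      rw [← e]
      convert (Commute.conj_iff g).2 (h3 ▸ h4) using 1
      group
    exact (diag_facts h2 e).2
  have h1 : ∀ σ ∈ T, (∀ i, f i * (f ((ρ * σ * ρ⁻¹)⁻¹ i))⁻¹ ∈ D₀) ∧ ρ * σ * ρ⁻¹ ∈ T := fun σ hσ => by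
    have := conj_mem_of_mem_normalizer hg ((W ι F).top_mem_sub D₀ hσ)
    rw [mul_assoc ((W ι F).base f), ← map_mul, WrData.inv_mul, WrData.mul_mul, mon_mem_iff] at this
    simpa using this
  have h3 : ρ ∈ T := hN (mem_normalizer_fintype fun σ hσ => (h1 σ hσ).2)
  have h4 : ∀ i, f i * (f a)⁻¹ ∈ D₀ := fun i => by
    obtain ⟨σ, hσ, rfl⟩ := hT a i
    simpa [mul_assoc] using (h1 _ (mul_mem (mul_mem (inv_mem h3) hσ) h3)).1 (σ a)
  have h5 : f a ∈ 𝐍[D₀] := mem_normalizer_fintype fun d hd => by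
    have := conj_mem_of_mem_normalizer hg ((W ι F).e_mem_sub T (ρ⁻¹ a) hd)
    rw [mon_conj_e, WrData.e_apply, ← mul_one ((W ι F).base _), ← map_one (W ι F).top,
      mon_mem_iff] at this
    simpa using this.1 a
  refine ⟨f a, h5, _, (mon_mem_iff _).2 ⟨fun i => (show (f a)⁻¹ * f i ∈ D₀ from ?_), h3⟩, ?_⟩
  · simpa [mul_assoc] using inv_conj_mem_of_mem_normalizer h5 (h4 i)
  · rw [← mul_assoc, ← map_mul]
    congr 2
    funext i; simp

end Cfsg.Agent.Class.PronSp
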