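import Mathlib
import Cfsg.Agent.Class.PronSp.CaseA
import Cfsg.Agent.Class.Wr.Lin
import Cfsg.Agent.Perm.PermModule

/-!
Odd index subgroups of products of symplectic groups of `2`-power dimension are pronormal.
-/

set_option autoImplicit false
set_option linter.unusedSectionVars false

namespace Cfsg.Agent.Class.PronSp

open Subgroup Quaternion Matrix Cfsg Cfsg.Agent.PLocal.Amb Equiv
open Cfsg.Agent.Class.Wr (WrData)

/-- `N(S)/S` is abelian and acts on overgroups of `S` in an all or nothing way. -/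
def PN (X : Type*) [Group X] : Prop :=
  ∃ S : Subgroup X, IsSyl 2 S ⊤ ∧ (∀ a ∈ 𝐍[S], ∀ b ∈ 𝐍[S], a * b * a⁻¹ * b⁻¹ ∈ S) ∧
    ∀ H, S ≤ H → ∀ g ∈ 𝐍[S], g ∈ 𝐍[H] ∨ g ∈ H ⊔ cj(g, H)

theorem pronormal_pi {ι : Type*} [Finite ι] {X : ι → Type*} [∀ i, Group (X i)] [∀ i, Finite (X i)]
    (h : ∀ i, PN (X i)) (H : Subgroup (Π i, X i)) (hH : Odd H.index) : IsPronormal H := by
  classical
  choose S h1 h2 h3 using h
  have hS : IsSyl 2 (pi Set.univ S) ⊤ := by
    have := Fintype.ofFinite ι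
    refine ⟨le_top, isPGroup_iff.2 fun x hx => ?_, fun R hR hR1 _ => ?_⟩
    · choose k hk using fun i => isPGroup_iff.1 (h1 i).pgrp _ (hx i trivial)
      refine ⟨∑ i, k i, funext fun i => ?_⟩
      rw [← Finset.add_sum_erase _ _ (Finset.mem_univ i), pow_add, pow_mul, Pi.pow_apply,
        Pi.pow_apply, hk, one_pow, Pi.one_apply]
    · refine fun x hx i _ => show x i ∈ S i from ?_
      rw [← (h1 i).eq (hR.map (Pi.evalMonoidHom X i)) (fun y hy => ⟨Pi.mulSingle i y,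
        hR1 ((mulSingle_mem_pi _ _).2 fun _ => hy), Pi.mulSingle_eq_same i y⟩) le_top]
      exact mem_map_of_mem _ hx
  have hN : ∀ g ∈ 𝐍[pi Set.univ S], ∀ i, g i ∈ 𝐍[S i] := fun g hg i =>
    mem_normalizer_fintype fun y hy => by
      simpa using conj_mem_of_mem_normalizer hg ((mulSingle_mem_pi _ _).2 fun _ => hy) i trivial
  obtain ⟨P, hP⟩ := KSG.SymSyl.exists_sylow_le_of_not_dvd (p := 2) hH.not_two_dvd_nat
  obtain ⟨c, -, hc⟩ := hS.exists_cj_eq (isSyl_top P)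
  refine FGS.IsPronormal.of_cj (g := c) ?_
  replace hP := hc ▸ cj_mono c hP
  generalize cj(c, H) = H at hP
  obtain ⟨Q, hQ⟩ := hS.exists_sylow_top
  refine (S3820.result _ H hP (hQ ▸ KSG.SymSyl.exists_conj_of_sylow_le Q le_rfl le_rfl)).2
    fun g hg => ?_
  obtain ⟨L, hL⟩ : ∃ L : ∀ i, Subgroup (X i), ∀ i y, y ∈ L i ↔ Pi.mulSingle i y ∈ H :=
    ⟨fun i => H.comap (MonoidHom.mulSingle X i), fun _ _ => Iff.rfl⟩
  have hSL : ∀ i, S i ≤ L i := fun i y hy => (hL i y).2 (hP ((mulSingle_mem_pi _ _).2 fun _ => hy))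
  have cs : ∀ (x : Π i, X i) i y, x * Pi.mulSingle i y * x⁻¹ = Pi.mulSingle i (x i * y * (x i)⁻¹) :=
    fun x i y => funext fun j => by
      by_cases e : j = i
      · subst e; simp
      · simp [e]
  have hLH : pi Set.univ L ≤ H := fun x hx =>
    pi_mem_of_mulSingle_mem x fun i => (hL i _).1 (hx i trivial)
  have key : ∀ x : Π i, X i, (∀ i, x i ∈ 𝐍[L i]) → x ∈ 𝐍[pi Set.univ L] := fun x hx =>
    mem_normalizer_fintype fun y hy i _ => conj_mem_of_mem_normalizer (hx i) (hy i trivial)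
  let k : Π i, X i := fun i => if g i ∈ 𝐍[L i] then 1 else g i
  have hk : k ∈ H ⊔ cj(g, H) := pi_mem_of_mulSingle_mem k fun i => by
    by_cases e : g i ∈ 𝐍[L i]
    · simp [k, e]
    simp only [k, if_neg e]
    refine (sup_le (fun y hy => mem_sup_left ((hL i y).1 hy)) (fun y hy => mem_sup_right ?_) :
      _ ≤ (H ⊔ cj(g, H)).comap (MonoidHom.mulSingle X i))
      ((h3 i _ (hSL i) _ (hN g hg i)).resolve_left e)
    obtain ⟨y, hy', rfl⟩ := mem_cj_iff_exists.1 hy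
    exact Set.mem_of_eq_of_mem (cs g i y).symm (conj_mem_cj g ((hL i y).1 hy'))
  refine ⟨k, hk, (FGS.mapConj_eq_mapConj_iff.2 (mem_normalizer_fintype fun y hy => ?_))⟩
  obtain ⟨n, hn, x, hx, rfl⟩ := (hS.mono (K := pi Set.univ L)
    (fun x hx i _ => hSL i (hx i trivial)) le_top).frattini (key y fun i => mem_normalizer_fintype fun t ht => (hL i _).2 (cs y i t ▸
      mul_mem (mul_mem hy ((hL i t).1 ht)) (inv_mem hy)))
  have e : k⁻¹ * g * (n * x) * (k⁻¹ * g)⁻¹ =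
      k⁻¹ * g * n * (k⁻¹ * g)⁻¹ * (k⁻¹ * g * x * (k⁻¹ * g)⁻¹ * x⁻¹) * (n⁻¹ * (n * x)) := by group
  rw [SetLike.mem_coe, e]
  refine mul_mem (mul_mem (hLH (conj_mem_of_mem_normalizer (key _ fun i => ?_) hn))
    (hP fun i _ => h2 i _ ?_ _ (hN x hx i))) (mul_mem (inv_mem (hLH hn)) hy) <;>
  by_cases e : g i ∈ 𝐍[L i] <;> simp [k, e, hN g hg i]

variable {F : Type*} [Field F] [Finite F] {ι : Type*} [Fintype ι] [DecidableEq ι]

theorem diag_cases (h2 : (2 : F) ≠ 0) (h8 : ∀ y : D F, y ^ 4 ≠ -1) (S : Sylow 2 (D F))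
    (hS : (S : Subgroup _) = Q8 F) {T : Subgroup (Perm ι)} (hT : ∀ a b, ∃ σ ∈ T, σ a = b)
    (hT2 : IsPGroup 2 T) (hs : IsSyl 2 ((W ι F).sub (Q8 F) T) ⊤) (a : ι) {H : Subgroup (U ι F)}
    (hH : (W ι F).sub (Q8 F) T ≤ H) {n : D F} (hn : n ∈ 𝐍[Q8 F]) :
    (W ι F).base (fun _ => n) ∈ 𝐍[H] ∨
      (W ι F).base (fun _ => n) ∈ H ⊔ cj((W ι F).base (fun _ => n), H) := by
  obtain ⟨K, hK⟩ : ∃ K, K = H ⊔ cj((W ι F).base (fun _ => n), H) := ⟨_, rfl⟩
  have hHK : H ≤ K := hK ▸ le_sup_left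
  rw [← hK]
  have hQ : ∀ c, ∀ q ∈ Q8 F, (W ι F).e c q ∈ H := fun c q hq => hH ((W ι F).e_mem_sub T c hq)
  have hTH : ∀ σ ∈ T, (W ι F).top σ ∈ H := fun σ hσ => hH ((W ι F).top_mem_sub _ hσ)
  rcases omega_or_mon h2 S hS hT hT2 (hs.mono (hH.trans hHK) le_top) a with h | h
  · exact .inr (norm_le h2 h8 (X := K.comap ((W ι F).base.comp (Pi.constMonoidHom ι _)))
      (fun q hq => hHK (hH ((W ι F).base_mem_sub T fun _ => hq))) (w_mem h2) h (w_not h2) hn)
  obtain ⟨M, hM⟩ : ∃ M : Subgroup (D F), ∀ y, y ∈ M ↔ (W ι F).e a y ∈ H :=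
    ⟨H.comap ((W ι F).e a), fun _ => Iff.rfl⟩
  have hQM : Q8 F ≤ M := fun q hq => (hM q).2 (hQ a q hq)
  have hsM : IsSyl 2 (Q8 F) M := hS ▸ isSyl_of_le S (hS ▸ hQM)
  have hML : M ≤ K.comap ((W ι F).e a) := fun y hy => hHK ((hM y).1 hy)
  obtain ⟨x, hx, hx'⟩ := pronormal_D h2 (hQM m1_mem) (Nat.not_even_iff_odd.1 fun e =>
    S.not_dvd_index (e.two_dvd.trans (index_dvd_of_le (hS ▸ hQM)))) n
  replace hx : x ∈ K.comap ((W ι F).e a) := sup_le hML (fun y hy => by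
    obtain ⟨y, hy', rfl⟩ := mem_cj_iff_exists.1 hy
    have := mon_conj_e (W ι F) (fun _ => n) 1 a y
    rw [map_one, mul_one] at this
    exact hK ▸ mem_sup_right (Set.mem_of_eq_of_mem this.symm (conj_mem_cj _ ((hM y).1 hy')))) hx
  replace hx' := FGS.mapConj_eq_mapConj_iff.1 hx'
  obtain ⟨m, hm, y, hy, e⟩ := hsM.frattini hx'
  have e' : x * m = n * y⁻¹ := by rw [eq_mul_inv_iff_mul_eq, mul_assoc, ← e, mul_inv_cancel_left]
  by_cases hl : n * y⁻¹ ∈ Q8 F
  swap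
  · exact .inr ((W ι F).base_mem_of fun b => e_mem_all _ hT (fun σ hσ => hHK (hTH σ hσ))
      (norm_le h2 h8 (hQM.trans hML) (mul_mem hn (inv_mem hy)) (e' ▸ mul_mem hx (hML hm)) hl hn) b)
  have hnM : n ∈ 𝐍[M] := by
    have := mul_mem (le_normalizer (hQM hl)) (mul_mem (inv_mem (le_normalizer hm)) hx')
    rwa [e, inv_mul_cancel_left, inv_mul_cancel_right] at this
  refine .inl (mem_normalizer_fintype fun g hg => ?_)
  obtain ⟨f, -, σ, -, rfl⟩ := h (hHK hg)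
  have e3 : (W ι F).base (fun _ => n) * ((W ι F).base f * (W ι F).top σ) *
      ((W ι F).base (fun _ => n))⁻¹ = (W ι F).base (fun c => n * f c * n⁻¹ * (f c)⁻¹) *
        ((W ι F).base f * (W ι F).top σ) := by
    rw [mul_assoc, mul_assoc, ← map_inv, WrData.top_mul_base]
    simp only [← mul_assoc, ← map_mul]
    congr 2
    funext c; simp
  rw [SetLike.mem_coe, e3]
  refine mul_mem ((W ι F).base_mem_of fun c => e_mem_all _ hT hTH (a := a) ((hM _).1 ?_) c) hg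
  obtain ⟨m, hm, y, hy, e⟩ := hsM.frattini (g := f c) (mem_normalizer_fintype fun t ht => by
    have := mul_mem (mul_mem hg (e_mem_all _ hT hTH ((hM t).1 ht) (σ⁻¹ c))) (inv_mem hg)
    rw [mon_conj_e, show σ (σ⁻¹ c) = c from σ.apply_symm_apply c] at this
    exact (hM _).2 (e_mem_all _ hT hTH this a))
  rw [e, show n * (m * y) * n⁻¹ * (m * y)⁻¹ = n * m * n⁻¹ * (n * y * n⁻¹ * y⁻¹) * m⁻¹ by group]
  exact mul_mem (mul_mem (conj_mem_of_mem_normalizer hnM hm) (hQM (comm_mem h2 h8 hn hy)))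
    (inv_mem hm)

theorem pn_U (h2 : (2 : F) ≠ 0) {k m : ℕ} (hm : m = 2 ^ k) : PN (U (Fin m) F) := by
  have := Fintype.ofFinite F
  obtain ⟨S, hS⟩ := (isPGroup_Q8 (F := F)).exists_le_sylow
  obtain ⟨T⟩ : Nonempty (Sylow 2 (Perm (Fin m))) := inferInstance
  have hT : ∀ a b, ∃ σ ∈ (T : Subgroup (Perm (Fin m))), σ a = b := fun a b => by
    obtain ⟨σ, hσ⟩ := (Perm.sylow_isPretransitive (f := k) (by simpa) T).exists_smul_eq a b
    exact ⟨σ, σ.2, hσ⟩
  have ho : Odd (Nat.card F) := Nat.card_eq_fintype_card (α := F) ▸ odd_card' h2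
  have hs : IsSyl 2 ((W (Fin m) F).sub S T) ⊤ := isSyl_top ((W (Fin m) F).isSyl_sub S T (by
    rw [Nat.card_congr (nonempty_equiv_Sp h2 (Fin m)).some.toEquiv,
      Nat.card_congr (nonempty_equiv_SL h2).some.toEquiv, Wr.val_card_Sp ho.not_two_dvd_nat,
      Wr.val_card_SL2 ho.not_two_dvd_nat, Wr.val_prod_sq ho Finite.one_lt_card]
    simp)).toSylow
  have a : Fin m := ⟨0, hm ▸ Nat.two_pow_pos k⟩
  have hN := fun g => norm_S h2 hS hT (KSG.SymSyl.selfN_perm _ T) a (g := g)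
  refine ⟨_, hs, ?_⟩
  rcases sylow_cases h2 S hS with ⟨e, h8⟩ | h
  · rw [e] at hs hN ⊢
    refine ⟨fun x hx y hy => ?_, fun H hH g hg => ?_⟩
    · obtain ⟨n, hn, s, hs, rfl⟩ := hN x hx
      obtain ⟨n', hn', s', hs', rfl⟩ := hN y hy
      have h1 := mul_mem hx (inv_mem (le_normalizer hs))
      have h3 := mul_mem hy (inv_mem (le_normalizer hs'))
      rw [mul_inv_cancel_right] at h1 h3
      have h4 := (W (Fin m) F).base_mem_sub T (f := (fun _ => n) * (fun _ => n') * (fun _ => n)⁻¹ *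
        (fun _ => n')⁻¹) fun _ => comm_mem h2 h8 hn hn'
      rw [map_mul, map_mul, map_mul, map_inv, map_inv] at h4
      convert mul_mem (mul_mem (conj_mem_of_mem_normalizer h1 hs) (conj_mem_of_mem_normalizer
        (mul_mem h1 h3) (mul_mem hs' (inv_mem hs)))) (mul_mem (conj_mem_of_mem_normalizer
        (mul_mem (mul_mem h1 h3) (inv_mem h1)) (inv_mem hs')) h4) using 1
      group
    · obtain ⟨n, hn, s, hs', rfl⟩ := hN g hg
      rw [cj_mul, cj_of_mem (hH hs')]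
      exact (diag_cases h2 h8 S e hT T.isPGroup' hs a hH hn).imp
        (fun h => mul_mem h (le_normalizer (hH hs'))) fun h => mul_mem h (mem_sup_left (hH hs'))
  · have hN' : 𝐍[(W (Fin m) F).sub S T] ≤ (W (Fin m) F).sub S T := fun g hg => by
      obtain ⟨n, hn, s, hs, rfl⟩ := hN g hg
      exact mul_mem ((W (Fin m) F).base_mem_sub _ fun _ => h hn) hs
    exact ⟨fun x hx y hy => hN' (mul_mem (mul_mem (mul_mem hx hy) (inv_mem hx)) (inv_mem hy)),
      fun H hH g hg => .inl (le_normalizer (hH (hN' hg)))⟩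

theorem main {t : ℕ} (m : Fin t → ℕ) (F : Fin t → Type*) [∀ i, Field (F i)] [∀ i, Fintype (F i)]
    (hm : ∀ i, ∃ k : ℕ, m i = 2 ^ k) (hodd : ∀ i, Odd (Fintype.card (F i)))
    (H : Subgroup (Π i, PSp (m i) (F i))) (hH : Odd H.index) : IsPronormal H := by
  have h2 : ∀ i, (2 : F i) ≠ 0 := fun i => Ring.two_ne_zero fun e => by
    have := hodd i
    rw [Nat.odd_iff, FiniteField.even_card_iff_char_two.1 e] at this
    exact zero_ne_one this
  let π : (Π i, U (Fin (m i)) (F i)) →* Π i, PSp (m i) (F i) := MonoidHom.pi fun i =>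
    ((QuotientGroup.mk' _).comp (nonempty_equiv_Sp (h2 i) (Fin (m i))).some.toMonoidHom).comp
      (Pi.evalMonoidHom _ i)
  have hπ : Function.Surjective π := fun y => by
    choose x hx using fun i => ((QuotientGroup.mk'_surjective _).comp
      (nonempty_equiv_Sp (h2 i) (Fin (m i))).some.surjective) (y i)
    exact ⟨x, funext hx⟩
  have := FGS.IsPronormal.map (pronormal_pi (fun i => pn_U (h2 i) (hm i).choose_spec) (H.comap π)
    (by rwa [index_comap_of_surjective _ hπ])) π hπ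
  rwa [map_comap_eq_self_of_surjective hπ] at this

end Cfsg.Agent.Class.PronSp
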